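import Cfsg.Agent.Omega.NOThreeL.NF.Nat

/-!
# THEOREM FFB (#19580): a second interface to the FF theorem

`W = zl S P`, `P ∈ P*(S)`, `C_Z(P) = 1`, minimal offenders `NF.MinOffM W S A`.

* `RP2 S P` : every offender `T ≤ S` is generated by minimal offenders modulo `C(W)`; minimal offenders with the same
  commutator are equal modulo `C(W)`; for a minimal offender `B`, `b ∈ B - C(W)` and `r ∈ [W, B]` there is `y ∈ W`
  with `[b, y] = r` which is centralised by all minimal offenders with another commutator;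
* `exists_minOff` : an offender `T ≤ S` contains a minimal offender;
* `rp2_of_natKM` : `RP2` for natural modules.
-/

set_option autoImplicit false

namespace Cfsg.Agent.Omega.NOThreeL.FFB

open Subgroup Cfsg Cfsg.Agent.ZN Cfsg.Agent.ZN.ChoiceBase Cfsg.Agent.Omega.MinPar
open Cfsg.Agent.Omega.FFThm (ElemM OffM NoOverM ConclM NatKM ActsSL relIndex_le_iff)
open Cfsg.Agent.Omega.NatPair (ap ap_mul ap_one ap_inv_ap ap_zero' ap_one' ext2 exists_ap)
open Cfsg.Agent.Omega.NO3b.EZero (cent_symm)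
open Cfsg.Agent.Omega.NOThreeL.NF (MinOffM)
open Cfsg.Agent.Omega.NOThreeL.NF.NatR
open Cfsg.Agent.Lib.SL2Mat
open scoped commutatorElement

universe u

/-- The second interface to the FF theorem. -/
structure RP2 {G : Type u} [Group G] (S P : Subgroup G) : Prop where
  gen : ∀ T : Subgroup G, T ≤ S → OffM (zl S P) T →
    T ≤ sSup {B : Subgroup G | B ≤ T ∧ MinOffM (zl S P) S B} ⊔ centralizer (zl S P : Set G)
  eq : ∀ A B : Subgroup G, MinOffM (zl S P) S A → MinOffM (zl S P) S B → ⁅zl S P, A⁆ = ⁅zl S P, B⁆ →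
    ∀ b ∈ B, ∃ a ∈ A, a⁻¹ * b ∈ centralizer (zl S P : Set G)
  nn : ∀ B : Subgroup G, MinOffM (zl S P) S B → ∀ b ∈ B, b ∉ centralizer (zl S P : Set G) →
    ∀ r ∈ ⁅zl S P, B⁆, ∃ y ∈ zl S P,
      (∀ B' : Subgroup G, MinOffM (zl S P) S B' → ⁅zl S P, B'⁆ ≠ ⁅zl S P, B⁆ → y ∈ centralizer (B' : Set G)) ∧
        b * y * b⁻¹ * y⁻¹ = r

variable {G : Type u} [Group G]

/-- An offender contains a minimal offender. -/
theorem exists_minOff [Finite G] {W S T : Subgroup G} (hT : T ≤ S) (h : OffM W T) : ∃ B ≤ T, MinOffM W S B := by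
  obtain ⟨B, ⟨hBT, hB⟩, hmin⟩ := Set.exists_min_image {B : Subgroup G | B ≤ T ∧ OffM W B}
    (fun B => (centralizer (W : Set G)).relIndex B) (Set.toFinite _) ⟨T, le_rfl, h⟩
  exact ⟨B, hBT, hBT.trans hT, hB, fun B' hB' h' => hmin B' ⟨hB'.trans hBT, h'⟩⟩

section nat

variable {F : Type} [Field F] {S P W : Subgroup G} {k : ℕ}
variable (hPW : P ≤ normalizer (W : Set G)) (hSP : S ≤ P)
include hPW hSP

/-- the minimal offenders in `T` -/
theorem nat_gen [Finite G] [CharP F 2] (M : NatKM F S P W ⊥ k) {T : Subgroup G} (hT : T ≤ S)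
    (hoff : OffM W T) :
    T ≤ sSup {B : Subgroup G | B ≤ T ∧ MinOffM W S B} ⊔ centralizer (W : Set G) := by
  classical
  obtain ⟨I, h1, h2⟩ := M.offM T hT hoff
  set K := sSup {B : Subgroup G | B ≤ T ∧ MinOffM W S B} ⊔ centralizer (W : Set G) with hK
  -- root groups of `T`
  have hroot : ∀ i ∈ I, ∀ c : F, ∀ a ∈ T, Ac M a (Pi.mulSingle i (up c)) → a ∈ K := by
    intro i hi c a ha hac
    let B : Subgroup G :=
      { carrier := {a | a ∈ T ∧ ∃ c : F, Ac M a (Pi.mulSingle i (up c))}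
        mul_mem' := by
          rintro a b ⟨ha, c, hc⟩ ⟨hb, d, hd⟩
          refine ⟨mul_mem ha hb, c + d, ?_⟩
          rw [← mulSingle_mul]
          exact Ac.mul hPW (hSP (hT hb)) hc hd
        one_mem' := ⟨one_mem _, 0, by rw [mulSingle_zero]; exact ac_one (one_mem _)⟩
        inv_mem' := by
          rintro a ⟨ha, c, hc⟩
          refine ⟨inv_mem ha, -c, ?_⟩
          rw [← mulSingle_inv]
          exact hc.inv hPW (hSP (hT ha)) }
    have hBT : B ≤ T := fun a ha => ha.1
    have key : ∀ c : F, (fun j => up ((Pi.single i c : Fin k → F) j) :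
        Fin k → Matrix.SpecialLinearGroup (Fin 2) F) = Pi.mulSingle i (up c) := by
      intro c
      funext j
      by_cases hj : j = i
      · subst hj; rw [Pi.single_eq_same, Pi.mulSingle_eq_same]
      · rw [Pi.single_eq_of_ne hj, Pi.mulSingle_eq_of_ne hj, up_zero]
    have hB : Rt M i B := by
      refine ⟨hBT.trans hT, fun a ha => ha.2, fun c => ?_⟩
      have hs : ∀ j, j ∉ I → (Pi.single i c : Fin k → F) j = 0 := by
        intro j hj
        have h3 : j ≠ i := fun h3 => hj (by rw [h3]; exact hi)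
        rw [Pi.single_apply, if_neg h3]
      obtain ⟨a, ha, hac⟩ := h2 (Pi.single i c) hs
      have h3 : Ac M a (Pi.mulSingle i (up c)) := by rw [← key c]; exact hac.1
      exact ⟨a, ⟨ha, c, h3⟩, h3⟩
    obtain ⟨B', hB'B, hB'⟩ := exists_minOff (S := S) hB.le (hB.offM hPW hSP)
    obtain ⟨j, hj⟩ := Rt.of (M := M) hPW hSP hB'
    -- `j = i`
    have hji : j = i := by
      by_contra hne
      obtain ⟨b, hb, hbc⟩ := hj.ex 1
      obtain ⟨d, hd⟩ := (hB'B hb).2
      obtain ⟨v, hv, hvj, -⟩ := exists_pt (M := M) j ![0, 1]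
      have e1 := ac_at hbc hv
      have e2 := ac_ne hd hv hne
      rw [e1, hvj] at e2
      have e3 := congrFun e2 0
      simp at e3
    subst hji
    obtain ⟨b, hb, hbc⟩ := hj.ex c
    have e : a = b * (b⁻¹ * a) := by group
    rw [e]
    have haP := hSP (hT ha)
    have hbP := hSP (hj.le hb)
    have hBK : B' ≤ K := (le_sSup (a := B') (show B' ∈ {B : Subgroup G | B ≤ T ∧ MinOffM W S B} from
      ⟨hB'B.trans hBT, hB'⟩)).trans le_sup_left
    refine mul_mem (hBK hb) ((le_sup_right : _ ≤ K) ?_)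
    refine cent_of_ac (M := M) hPW (mul_mem (inv_mem hbP) haP) ?_
    have h3 := Ac.mul hPW haP (hbc.inv hPW hbP) hac
    rwa [inv_mul_cancel] at h3
  -- induction on the support
  have main : ∀ s : Finset (Fin k), ∀ t ∈ T, ∀ b : Fin k → F, (∀ i, i ∉ I → b i = 0) → (∀ i, i ∉ s → b i = 0) →
      Ac M t (fun i => up (b i)) → t ∈ K := by
    intro s
    induction s using Finset.induction_on with
    | empty =>
      intro t ht b _ hb hac
      refine (le_sup_right : _ ≤ K) (cent_of_ac (M := M) hPW (hSP (hT ht)) ?_)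
      have : (fun i => up (b i) : Fin k → Matrix.SpecialLinearGroup (Fin 2) F) = 1 := by
        funext i
        rw [hb i (Finset.notMem_empty i), up_zero]; rfl
      rwa [this] at hac
    | @insert j s hjs ih =>
      intro t ht b hbI hb hac
      by_cases hbj : b j = 0
      · refine ih t ht b hbI (fun i hi => ?_) hac
        by_cases hij : i = j
        · rw [hij, hbj]
        · exact hb i (by rw [Finset.mem_insert]; tauto)
      have hjI : j ∈ I := by
        by_contra h0
        exact hbj (hbI j h0)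
      obtain ⟨a, ha, haa⟩ := h2 (Pi.single j (b j)) (fun i hi => by
        have h3 : i ≠ j := fun h3 => hi (h3 ▸ hjI)
        rw [Pi.single_apply, if_neg h3])
      have haa' : Ac M a (fun i => up ((Pi.single j (b j) : Fin k → F) i)) := haa.1
      have haj : Ac M a (Pi.mulSingle j (up (b j))) := by
        have : (fun i => up ((Pi.single j (b j) : Fin k → F) i) :
            Fin k → Matrix.SpecialLinearGroup (Fin 2) F) = Pi.mulSingle j (up (b j)) := by
          funext i
          by_cases hi : i = j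
          · subst hi; rw [Pi.single_eq_same, Pi.mulSingle_eq_same]
          · rw [Pi.single_eq_of_ne hi, Pi.mulSingle_eq_of_ne hi, up_zero]
        rwa [this] at haa'
      have haK := hroot j hjI (b j) a ha haj
      have e : t = a * (a⁻¹ * t) := by group
      rw [e]
      refine mul_mem haK (ih (a⁻¹ * t) (mul_mem (inv_mem ha) ht) (fun i => if i = j then 0 else b i) (fun i hi => ?_)
        (fun i hi => ?_) ?_)
      · split_ifs
        · rfl
        · exact hbI i hi
      · split_ifs with hij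
        · rfl
        · exact hb i (by rw [Finset.mem_insert]; tauto)
      · have h3 := Ac.mul hPW (hSP (hT ht)) (haj.inv hPW (hSP (hT ha))) hac
        have h4 : (Pi.mulSingle j (up (b j)))⁻¹ * (fun i => up (b i) : Fin k → Matrix.SpecialLinearGroup (Fin 2) F) =
            fun i => up (if i = j then 0 else b i) := by
          funext i
          rw [Pi.mul_apply, Pi.inv_apply]
          by_cases hi : i = j
          · subst hi
            rw [Pi.mulSingle_eq_same, if_pos rfl, inv_mul_cancel, up_zero]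
          · rw [Pi.mulSingle_eq_of_ne hi, if_neg hi, inv_one, one_mul]
        rwa [h4] at h3
  intro t ht
  obtain ⟨b, hb, hac⟩ := h1 t ht
  exact main Finset.univ t ht b hb (fun i hi => absurd (Finset.mem_univ i) hi) hac.1

theorem nat_eq [Finite G] [CharP F 2] {A B : Subgroup G} (hA : MinOffM W S A) (hB : MinOffM W S B)
    (M : NatKM F S P W ⊥ k) (he : ⁅W, A⁆ = ⁅W, B⁆) {b : G} (hb : b ∈ B) :
    ∃ a ∈ A, a⁻¹ * b ∈ centralizer (W : Set G) := by
  obtain ⟨i, hi⟩ := Rt.of (M := M) hPW hSP hA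
  obtain ⟨j, hj⟩ := Rt.of (M := M) hPW hSP hB
  rw [hi.comm_eq hPW hSP, hj.comm_eq hPW hSP] at he
  have hij : i = j := ln_injective he
  subst hij
  obtain ⟨c, hc⟩ := hj.acts b hb
  obtain ⟨a, ha, hac⟩ := hi.ex c
  have haP := hSP (hi.le ha)
  have hbP := hSP (hj.le hb)
  refine ⟨a, ha, cent_of_ac (M := M) hPW (mul_mem (inv_mem haP) hbP) ?_⟩
  have h3 := Ac.mul hPW hbP (hac.inv hPW haP) hc
  rwa [inv_mul_cancel] at h3

theorem nat_nn [Finite G] [CharP F 2] {B : Subgroup G} (hB : MinOffM W S B)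
    (M : NatKM F S P W ⊥ k) {b : G} (hb : b ∈ B) (hbc : b ∉ centralizer (W : Set G)) {r : G} (hr : r ∈ ⁅W, B⁆) :
    ∃ y ∈ W, (∀ B' : Subgroup G, MinOffM W S B' → ⁅W, B'⁆ ≠ ⁅W, B⁆ → y ∈ centralizer (B' : Set G)) ∧
      b * y * b⁻¹ * y⁻¹ = r := by
  obtain ⟨i, hi⟩ := Rt.of (M := M) hPW hSP hB
  rw [hi.comm_eq hPW hSP] at hr
  obtain ⟨c, hc⟩ := hi.acts b hb
  have hbP := hSP (hi.le hb)
  have hc0 : c ≠ 0 := by
    rintro rfl
    rw [mulSingle_zero] at hc
    exact hbc (cent_of_ac hPW hbP hc)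
  obtain ⟨y, hy, hyi, hyj⟩ := exists_pt (M := M) i ![0, c⁻¹ * M.e r i 0]
  refine ⟨y, hy, fun B' hB' hne => ?_, ?_⟩
  · obtain ⟨j, hj⟩ := Rt.of (M := M) hPW hSP hB'
    have hji : j ≠ i := by
      rintro rfl
      exact hne (by rw [hi.comm_eq hPW hSP, hj.comm_eq hPW hSP])
    refine hj.fix hPW hSP hy ?_
    rw [hyj j hji]; rfl
  · have hby := cmem hPW hbP hy
    refine e_inj (M := M) (mul_mem hby (inv_mem hy)) hr.1 ?_
    funext j
    rw [M.mul _ hby _ (inv_mem hy), Pi.add_apply, e_inv hy, Pi.neg_apply]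
    by_cases hj : j = i
    · subst hj
      rw [ac_at hc hy, hyi]
      refine ext2 ?_ ?_
      · simp [mul_inv_cancel_left₀ hc0]
      · simp [hr.2.1]
    · rw [ac_ne hc hy hj, hyj j hj, hr.2.2 j hj]
      simp

end nat

/-- **`RP2` for natural modules.** -/
theorem rp2_of_natKM [Finite G] {S P : Subgroup G} (hSP : S ≤ P) (hD : FrameFF.cv S P = ⊥)
    {F : Type} [Field F] [Finite F] [CharP F 2] {k : ℕ} (M : NatKM F S P (zl S P) (FrameFF.cv S P) k) :
    RP2 S P := by
  rw [hD] at M
  have hPW : P ≤ normalizer (zl S P : Set G) := Cfsg.Agent.MinSimple.VModule.le_normalizer_zl S P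
  exact ⟨fun T hT h => nat_gen hPW hSP M hT h, fun A B hA hB he b hb => nat_eq hPW hSP hA hB M he hb,
    fun B hB b hb hbc r hr => nat_nn hPW hSP hB M hb hbc hr⟩

end Cfsg.Agent.Omega.NOThreeL.FFB
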