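import Cfsg.Agent.Omega.NOThreeL.NF.Line

/-!
# THEOREM FFB (#19580): tools

* `exact_step` : the counting step (1): three `≤` give three `=`;
* `exists_good` : if `W ≤ S` does not centralise `V_P`, then `P = ⟨S, W^h⟩` for some `h ∈ P`;
* `exists_conj_sup` : `P = ⟨S, S^p⟩` for some `p ∈ P`; `P = ⟨S, S^p⟩` for all `p ∈ P - M_P`;
* `eq_line` : an elementary abelian `N ≥ V_P`, `P ≤ N(N)`, `O₂(P) ≤ C(N)`, with
  `[N, A^p] ≤ V_P`, `|N : C_N(A)| ≤ |A : C_A(V_P)|` for a minimal offender `A` on `V_P` is `V_P`.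
-/

set_option autoImplicit false

namespace Cfsg.Agent.Omega.NOThreeL.FFB

open Subgroup Cfsg
open Cfsg.Agent.ZN
open Cfsg.Agent.ZN.ChoiceBase hiding mem_zc
open Cfsg.Agent.Omega.MinPar Cfsg.Agent.Omega.Frame Cfsg.Agent.Omega.FrameNOFF
open Cfsg.Agent.Omega.NO3b.EZero (NotFF cent_symm cj_cent cj_norm)
open Cfsg.Agent.Omega.FFThm (ElemM OffM NoOverM ConclM relIndex_le_iff)
open Cfsg.Agent.Omega.NOThreeL.Star (card_sup_mul rel_mul_card)
open Cfsg.Agent.Omega.NOThreeL.NF
open Cfsg.Agent.MinSimple.VModule (mem_zc zc_le zc_sq zc_comm le_centralizer_zc zc_le_zl zl_le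
  le_normalizer_zl normalizer_le_normalizer_zc le_normalizer_o2 o2_isPGroup o2_le)
open scoped commutatorElement

universe u

variable {G : Type u} [Group G] [Finite G]

/-- **The counting step.** -/
theorem exact_step {V₁ V₂ A : Subgroup G} (h11 : V₁ ≤ centralizer (V₁ : Set G))
    (h22 : V₂ ≤ centralizer (V₂ : Set G)) (h12 : V₁ ≤ centralizer (V₂ : Set G))
    (hD : (centralizer (A : Set G)).relIndex (V₁ ⊔ V₂) ≤
      (centralizer ((V₁ ⊔ V₂ : Subgroup G) : Set G)).relIndex A)
    (h1 : (centralizer (V₁ : Set G)).relIndex A ≤ (centralizer (A : Set G)).relIndex V₁)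
    (h2 : (centralizer (V₂ : Set G)).relIndex (A ⊓ centralizer (V₁ : Set G)) ≤
      (centralizer ((A ⊓ centralizer (V₁ : Set G) : Subgroup G) : Set G)).relIndex V₂) :
    (centralizer (V₁ : Set G)).relIndex A = (centralizer (A : Set G)).relIndex V₁ ∧
      (centralizer (V₂ : Set G)).relIndex (A ⊓ centralizer (V₁ : Set G)) =
        (centralizer ((A ⊓ centralizer (V₁ : Set G) : Subgroup G) : Set G)).relIndex V₂ ∧
      (V₁ ⊔ V₂) ⊓ centralizer ((A ⊓ centralizer (V₁ : Set G) : Subgroup G) : Set G) =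
        V₁ ⊔ ((V₁ ⊔ V₂) ⊓ centralizer (A : Set G)) := by
  set D := V₁ ⊔ V₂ with hDdef
  set T := A ⊓ centralizer (V₁ : Set G) with hT
  have hDD : D ≤ centralizer (D : Set G) := by
    refine sup_le (cent_symm (sup_le h11 (cent_symm h12))) (cent_symm (sup_le h12 h22))
  have hV1T : V₁ ≤ centralizer (T : Set G) := cent_symm inf_le_right
  have e1 : A ⊓ centralizer (D : Set G) = T ⊓ centralizer (V₂ : Set G) := by
    have l1 : V₁ ≤ D := le_sup_left
    have l2 : V₂ ≤ D := le_sup_right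
    refine le_antisymm (le_inf (inf_le_inf_left _ (centralizer_le l1))
      (inf_le_right.trans (centralizer_le l2))) (le_inf (inf_le_left.trans inf_le_left) ?_)
    exact cent_symm (sup_le (cent_symm (inf_le_left.trans inf_le_right)) (cent_symm inf_le_right))
  have hD' := relIndex_le_iff.2 hD
  have h1' := relIndex_le_iff.2 h1
  have h2' := relIndex_le_iff.2 h2
  rw [e1] at hD'
  -- `D = V₂ (D ⊓ C(T))`
  have e2 : V₂ ⊔ (D ⊓ centralizer (T : Set G)) = D := by
    refine le_antisymm (sup_le le_sup_right inf_le_left) (sup_le ?_ le_sup_left)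
    exact (le_inf le_sup_left hV1T).trans le_sup_right
  have s1 := card_sup_mul hDD (le_sup_right : V₂ ≤ D) (inf_le_left : D ⊓ centralizer (T : Set G) ≤ D)
  rw [e2, ← inf_assoc, inf_eq_left.2 (le_sup_right : V₂ ≤ D)] at s1
  have s2 := card_sup_mul hDD (le_sup_left : V₁ ≤ D) (inf_le_left : D ⊓ centralizer (A : Set G) ≤ D)
  rw [← inf_assoc, inf_eq_left.2 (le_sup_left : V₁ ≤ D)] at s2
  have hle : V₁ ⊔ (D ⊓ centralizer (A : Set G)) ≤ D ⊓ centralizer (T : Set G) :=
    sup_le (le_inf le_sup_left hV1T) (inf_le_inf_left _ (centralizer_le inf_le_left))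
  have hy := Subgroup.card_le_of_le hle
  have r1 : (centralizer (V₁ : Set G)).relIndex A * Nat.card T = Nat.card A := rel_mul_card _ _
  have r2 := rel_mul_card V₁ (centralizer (A : Set G))
  have r3 := rel_mul_card T (centralizer (V₂ : Set G))
  have r4 := rel_mul_card V₂ (centralizer (T : Set G))
  set d := Nat.card D
  set da := Nat.card ↥(D ⊓ centralizer (A : Set G))
  set dT := Nat.card ↥(D ⊓ centralizer (T : Set G))
  set v1 := Nat.card V₁
  set v1A := Nat.card ↥(V₁ ⊓ centralizer (A : Set G))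
  set v2 := Nat.card V₂
  set v2T := Nat.card ↥(V₂ ⊓ centralizer (T : Set G))
  set a := Nat.card A
  set t := Nat.card T
  set t2 := Nat.card ↥(T ⊓ centralizer (V₂ : Set G))
  set y := Nat.card ↥(V₁ ⊔ (D ⊓ centralizer (A : Set G)) : Subgroup G)
  have pda : 0 < da := Nat.card_pos
  have pdT : 0 < dT := Nat.card_pos
  have pv1A : 0 < v1A := Nat.card_pos
  have pv2T : 0 < v2T := Nat.card_pos
  have pt : 0 < t := Nat.card_pos
  have pt2 : 0 < t2 := Nat.card_pos
  have pv1 : 0 < v1 := Nat.card_pos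
  -- the chain
  have c1 : (a * v1A) * (da * v2T) ≤ (v1 * t) * (da * v2T) := Nat.mul_le_mul_right _ h1'
  have c2 : (v1 * t) * (da * v2T) = y * (v1A * (t * v2T)) := by
    calc (v1 * t) * (da * v2T) = (v1 * da) * (t * v2T) := by ring
      _ = y * (v1A * (t * v2T)) := by rw [← s2]; ring
  have c3 : y * (v1A * (t * v2T)) ≤ dT * (v1A * (t * v2T)) := Nat.mul_le_mul_right _ hy
  have c4 : dT * (v1A * (t * v2T)) ≤ dT * (v1A * (v2 * t2)) :=
    Nat.mul_le_mul_left _ (Nat.mul_le_mul_left _ h2')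
  have c5 : dT * (v1A * (v2 * t2)) ≤ (a * v1A) * (da * v2T) := by
    calc dT * (v1A * (v2 * t2)) = v1A * t2 * (v2 * dT) := by ring
      _ = (d * t2) * (v1A * v2T) := by rw [← s1]; ring
      _ ≤ (a * da) * (v1A * v2T) := Nat.mul_le_mul_right _ hD'
      _ = _ := by ring
  have q1 : a * v1A = v1 * t := by
    have : (a * v1A) * (da * v2T) = (v1 * t) * (da * v2T) :=
      le_antisymm c1 (c2.le.trans (c3.trans (c4.trans c5)))
    exact Nat.eq_of_mul_eq_mul_right (Nat.mul_pos pda pv2T) this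
  have q2 : t * v2T = v2 * t2 := by
    have h3 : dT * (v1A * (t * v2T)) = dT * (v1A * (v2 * t2)) :=
      le_antisymm c4 (c5.trans (c1.trans (c2.le.trans c3)))
    exact Nat.eq_of_mul_eq_mul_left pv1A (Nat.eq_of_mul_eq_mul_left pdT h3)
  have q3 : y = dT := by
    have h3 : y * (v1A * (t * v2T)) = dT * (v1A * (t * v2T)) :=
      le_antisymm c3 (c4.trans (c5.trans (c1.trans c2.le)))
    exact Nat.eq_of_mul_eq_mul_right (Nat.mul_pos pv1A (Nat.mul_pos pt pv2T)) h3
  refine ⟨le_antisymm h1 (relIndex_le_iff.1 q1.ge), le_antisymm h2 (relIndex_le_iff.1 q2.ge), ?_⟩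
  exact (Subgroup.eq_of_le_of_card_ge hle q3.ge).symm

variable {S : Sylow 2 G} {P A : Subgroup G}

omit [Finite G] in
theorem cent_o2 (hc : IsCharacteristicTwoType G) [Finite G] (hP : IsParS (S : Subgroup G) P) :
    o2 P ≤ centralizer (zl (S : Subgroup G) P : Set G) := by
  rw [← hP.inf_centralizer S hc]; exact inf_le_right

/-- `⟨A^P⟩ S = P` -/
theorem sup_LL (hc : IsCharacteristicTwoType G) (hP : IsParS (S : Subgroup G) P) (hA : A ≤ (S : Subgroup G))
    (hne : ¬ A ≤ centralizer (zl (S : Subgroup G) P : Set G)) : LL P A ⊔ (S : Subgroup G) = P := by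
  rcases hP.toIsPar.sup_eq_or_inf_le S (LL_le_self (hA.trans hP.le)) (le_normalizer_LL P A) with h1 | h1
  · exact h1
  · exact absurd (((le_inf hA (le_LL P A)).trans h1).trans (cent_o2 hc hP)) hne

/-- **A good conjugate.** -/
theorem exists_good (hc : IsCharacteristicTwoType G) (hP : IsParS (S : Subgroup G) P) (hA : A ≤ (S : Subgroup G))
    (hne : ¬ A ≤ centralizer (zl (S : Subgroup G) P : Set G)) : ∃ h ∈ P, P ≤ (S : Subgroup G) ⊔ cj h A := by
  by_contra hcon
  push Not at hcon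
  obtain ⟨M, hM, hmax⟩ := hP.exists_max
  have hAP : A ≤ P := hA.trans hP.le
  have h1 : ∀ h ∈ P, cj h A ≤ M := by
    intro h hh
    have h2 : cj h A ≤ P := by
      have := cj_mono h hAP
      rwa [cj_eq_of_mem_normalizer (le_normalizer hh)] at this
    have h3 : (S : Subgroup G) ⊔ cj h A ≤ P := sup_le hP.le h2
    exact le_sup_right.trans (hmax _ le_sup_left (lt_of_le_not_ge h3 (hcon h hh)))
  have h2 : (S : Subgroup G) ≤ M := hmax _ le_rfl (lt_of_le_not_ge hP.le fun h0 => hP.not_le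
    (h0.trans le_normalizer))
  have h3 : P ≤ M := by
    rw [← sup_LL hc hP hA hne]
    exact sup_le (LL_le h1) h2
  exact absurd h3 (not_le_of_gt hM)

/-- `P = ⟨S, S^p⟩` for some `p ∈ P`. -/
theorem exists_conj_sup (hP : IsParS (S : Subgroup G) P) : ∃ p ∈ P, P ≤ (S : Subgroup G) ⊔ cj p (S : Subgroup G) := by
  have hf : Fact (Nat.Prime 2) := ⟨Nat.prime_two⟩
  by_contra hcon
  push Not at hcon
  obtain ⟨M, hM, hmax⟩ := hP.exists_max
  have h2 : (S : Subgroup G) ≤ M := hmax _ le_rfl (lt_of_le_not_ge hP.le fun h0 => hP.not_le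
    (h0.trans le_normalizer))
  have hN : P ⊓ normalizer ((S : Subgroup G) : Set G) ≤ M := by
    refine hmax _ (le_inf hP.le le_normalizer) (lt_of_le_not_ge inf_le_left fun h0 => hP.not_le ?_)
    exact h0.trans inf_le_right
  refine absurd (fun p hp => ?_ : P ≤ M) (not_le_of_gt hM)
  have h3 : cj p (S : Subgroup G) ≤ P := by
    have := cj_mono p hP.le
    rwa [cj_eq_of_mem_normalizer (le_normalizer hp)] at this
  have h4 : cj p (S : Subgroup G) ≤ M :=
    le_sup_right.trans (hmax _ le_sup_left (lt_of_le_not_ge (sup_le hP.le h3) (hcon p hp)))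
  obtain ⟨m, hm, h5⟩ := NoFF.Main.exists_le_conj S h2 (isPGroup_cj p S.isPGroup') h4
  have h6 : cj p (S : Subgroup G) = cj m (S : Subgroup G) :=
    eq_of_le_of_card_ge h5 (by rw [card_cj]; exact (card_cj _ _).ge)
  have h7 : m⁻¹ * p ∈ normalizer ((S : Subgroup G) : Set G) := NO3b.EZero.cj_eq_cj_iff.1 h6
  have h7' : m⁻¹ * p ∈ P := P.mul_mem (P.inv_mem (hM.le hm)) hp
  have h8 : m⁻¹ * p ∈ M := hN ⟨h7', h7⟩
  have e : p = m * (m⁻¹ * p) := by group
  rw [e]
  exact mul_mem hm h8

/-- A 2-element of `P` which centralises `V_P` is in `O₂(P)`. -/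
theorem mem_o2_of_two' (hc : IsCharacteristicTwoType G) (hP : IsParS (S : Subgroup G) P) {c : G} (hcP : c ∈ P)
    (hcc : c ∈ centralizer (zl (S : Subgroup G) P : Set G)) {k : ℕ} (hk : c ^ 2 ^ k = 1) : c ∈ o2 P := by
  have hz : IsPGroup 2 (zpowers c) := by
    rw [IsPGroup.iff_card, Nat.card_zpowers]
    obtain ⟨j, -, hj⟩ := (Nat.dvd_prime_pow Nat.prime_two).1 (orderOf_dvd_of_pow_eq_one hk)
    exact ⟨j, hj⟩
  obtain ⟨n, hn, hnS⟩ := FFThm.exists_conj_le S hP.le hz ((zpowers_le).2 hcP)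
  have h1 : n * c * n⁻¹ ∈ (S : Subgroup G) := hnS ⟨c, mem_zpowers c, rfl⟩
  have h2 : n * c * n⁻¹ ∈ centralizer (zl (S : Subgroup G) P : Set G) := by
    rw [mem_centralizer_iff] at hcc ⊢
    intro v hv
    have h3 := hcc _ ((mem_normalizer_iff''.1 (le_normalizer_zl (S : Subgroup G) P hn) v).1 hv)
    have e1 : v * (n * c * n⁻¹) = n * ((n⁻¹ * v * n) * c) * n⁻¹ := by group
    have e2 : n * c * n⁻¹ * v = n * (c * (n⁻¹ * v * n)) * n⁻¹ := by group
    rw [e1, e2, h3]
  have h3 : n * c * n⁻¹ ∈ o2 P := by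
    rw [← hP.inf_centralizer S hc]; exact ⟨h1, h2⟩
  exact (mem_normalizer_iff.1 (le_normalizer_o2 P hn) c).2 h3

/-- A nontrivial subgroup `D ≤ S` with `P ≤ N(D)` contains `z ∈ Z#`. -/
theorem exists_zc {D : Subgroup G} (hD : D ≤ (S : Subgroup G)) (hsq : ∀ d ∈ D, d ^ 2 = 1)
    (hn : (S : Subgroup G) ≤ normalizer (D : Set G)) (hne : D ≠ ⊥) :
    ∃ z ∈ zc (S : Subgroup G), z ≠ 1 ∧ z ∈ D := by
  obtain ⟨x, hx, hx1, hxS⟩ := NoFF.LinesPlug.exists_fixed S.isPGroup' hD hn hne
  exact ⟨x, mem_zc.2 ⟨hD hx, fun s hs => hxS s hs, hsq x hx⟩, hx1, hx⟩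

/-- `⟨A^P⟩` and `S` centralise nothing in `Z#`. -/
theorem not_cent_LL (hc : IsCharacteristicTwoType G) (hP : IsParS (S : Subgroup G) P)
    (hcz : zc (S : Subgroup G) ⊓ centralizer (P : Set G) = ⊥) (hA : A ≤ (S : Subgroup G))
    (hne : ¬ A ≤ centralizer (zl (S : Subgroup G) P : Set G)) {z : G} (hz : z ∈ zc (S : Subgroup G))
    (hcen : z ∈ centralizer (LL P A : Set G)) : z = 1 := by
  have hxP : z ∈ centralizer (P : Set G) := by
    have h1 : P ≤ centralizer ({z} : Set G) := by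
      rw [← sup_LL hc hP hA hne]
      refine sup_le (fun l hl => ?_) fun s hs => ?_
      · rw [mem_centralizer_singleton_iff]
        exact mem_centralizer_iff.1 hcen l hl
      · rw [mem_centralizer_singleton_iff]
        exact (mem_zc.1 hz).2.1 s hs
    rw [mem_centralizer_iff]
    intro p hp
    exact mem_centralizer_singleton_iff.1 (h1 hp)
  have h2 : z ∈ zc (S : Subgroup G) ⊓ centralizer (P : Set G) := ⟨hz, hxP⟩
  rwa [hcz, mem_bot] at h2

/-- **`N = V_P`.** -/
theorem eq_line (hc : IsCharacteristicTwoType G) (hP : IsParS (S : Subgroup G) P)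
    (hcz : zc (S : Subgroup G) ⊓ centralizer (P : Set G) = ⊥) (hr : RP (S : Subgroup G) P)
    (hA : MinOffM (zl (S : Subgroup G) P) (S : Subgroup G) A) {N : Subgroup G}
    (hWN : zl (S : Subgroup G) P ≤ N) (hNsq : ∀ n ∈ N, n ^ 2 = 1)
    (hNS : N ≤ (S : Subgroup G)) (hPN : P ≤ normalizer (N : Set G)) (hQN : o2 P ≤ centralizer (N : Set G))
    (htriv : ∀ l ∈ LL P A, ∀ n ∈ N, l * n * l⁻¹ * n⁻¹ ∈ zl (S : Subgroup G) P)
    (hrel : (centralizer (A : Set G)).relIndex N ≤ (centralizer (zl (S : Subgroup G) P : Set G)).relIndex A) :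
    N = zl (S : Subgroup G) P := by
  set W := zl (S : Subgroup G) P with hW
  obtain ⟨X, hXP, hXc, hXb, hXg⟩ := hr.gen A hA
  set q := (centralizer (W : Set G)).relIndex A with hq
  have hAne : ¬ A ≤ centralizer (W : Set G) := hA.off.ne
  -- the indices
  have hidx : ∀ x ∈ X, (centralizer ((cj x A : Subgroup G) : Set G)).relIndex N ≤ q := by
    intro x hx
    have hxN : cj x N = N := cj_eq_of_mem_normalizer (hPN (hXP x hx))
    have h1 : (centralizer ((cj x A : Subgroup G) : Set G)).relIndex N = (centralizer (A : Set G)).relIndex N := by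
      conv_lhs => rw [← hxN, ← cj_centralizer]
      exact relIndex_map_map_of_injective _ _ (MulAut.conj x).injective
    rw [h1]
    exact hrel
  have hcard := card_le_of_finset (N := N) (fun x => centralizer ((cj x A : Subgroup G) : Set G)) X hidx
  -- the common fixed points are fixed by `LL`
  have hfix : N ⊓ (⨅ x ∈ X, centralizer ((cj x A : Subgroup G) : Set G)) ≤ centralizer (LL P A : Set G) := by
    intro n hn
    have hnN : n ∈ N := hn.1
    have hnX : ∀ x ∈ X, n ∈ centralizer ((cj x A : Subgroup G) : Set G) := by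
      intro x hx
      exact mem_iInf.1 (mem_iInf.1 hn.2 x) hx
    have h0 : (⨆ x ∈ X, cj x A) ≤ centralizer ({n} : Set G) := by
      refine iSup₂_le fun x hx l hl => ?_
      rw [mem_centralizer_singleton_iff]
      exact mem_centralizer_iff.1 (hnX x hx) l hl
    have h0P : (⨆ x ∈ X, cj x A) ≤ LL P A := iSup₂_le fun x hx => cj_le_LL (hXP x hx)
    have hLP : LL P A ≤ P := LL_le_self (hA.le.trans hP.le)
    have hCn : P ≤ normalizer ((P ⊓ centralizer (W : Set G) : Subgroup G) : Set G) := by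
      intro p hp
      apply mem_normalizer_of_cj_le
      rw [cj_inf, cj_centralizer, cj_eq_of_mem_normalizer (le_normalizer hp),
        cj_eq_of_mem_normalizer (le_normalizer_zl (S : Subgroup G) P hp)]
    have h3 : LL P A ≤ centralizer ({n} : Set G) := by
      refine LL_le fun p hp l hl => ?_
      have hlL : l ∈ LL P A := cj_le_LL hp hl
      obtain ⟨a, ha, c, hcc, hlac⟩ := exists_mul_of_sup ((h0P.trans hLP).trans hCn) (hXg p hp hl)
      have hcL : c ∈ LL P A := by
        have e : c = a⁻¹ * l := by rw [hlac]; group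
        rw [e]
        exact mul_mem (inv_mem (h0P ha)) hlL
      -- `c` centralises `n`
      have hcn : c ∈ centralizer ({n} : Set G) := by
        have hw := htriv c hcL n hnN
        have hcw := mem_centralizer_iff.1 hcc.2 _ hw
        -- `c²`
        have hc2 : c ^ 2 ∈ centralizer ({n} : Set G) := by
          rw [mem_centralizer_singleton_iff]
          have hsq : (c * n * c⁻¹ * n⁻¹) ^ 2 = 1 := hNsq _ (hWN hw)
          have e1 : c ^ 2 * n * (c ^ 2)⁻¹ * n⁻¹ =
              (c * (c * n * c⁻¹ * n⁻¹) * c⁻¹) * (c * n * c⁻¹ * n⁻¹) := by rw [pow_two]; group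
          have e2 : c * (c * n * c⁻¹ * n⁻¹) * c⁻¹ = c * n * c⁻¹ * n⁻¹ := by
            rw [← hcw]; group
          rw [e2, ← pow_two, hsq] at e1
          have e3 : c ^ 2 * n = (c ^ 2 * n * (c ^ 2)⁻¹ * n⁻¹) * (n * c ^ 2) := by group
          rw [e3, e1, one_mul]
        -- the 2-part
        obtain ⟨k, j, hj, hkj⟩ := Nat.exists_eq_two_pow_mul_odd (orderOf_pos c).ne'
        have hcj : c ^ j ∈ centralizer ({n} : Set G) := by
          have h4 : (c ^ j) ^ 2 ^ k = 1 := by
            rw [← pow_mul, mul_comm, ← hkj, pow_orderOf_eq_one]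
          have h5 : c ^ j ∈ o2 P := mem_o2_of_two' hc hP (pow_mem hcc.1 j) (pow_mem hcc.2 j) h4
          rw [mem_centralizer_singleton_iff]
          exact (mem_centralizer_iff.1 (hQN h5) n hnN).symm
        exact mem_of_odd hj hc2 hcj
      rw [hlac]
      exact mul_mem (h0 ha) hcn
    rw [mem_centralizer_iff]
    intro l hl
    exact mem_centralizer_singleton_iff.1 (h3 hl)
  have hbot : N ⊓ (⨅ x ∈ X, centralizer ((cj x A : Subgroup G) : Set G)) = ⊥ := by
    by_contra hne
    have hn : (S : Subgroup G) ≤ normalizer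
        ((N ⊓ centralizer (LL P A : Set G) : Subgroup G) : Set G) := by
      intro s hs
      apply mem_normalizer_of_cj_le
      rw [cj_inf, cj_centralizer, cj_eq_of_mem_normalizer (hPN (hP.le hs)),
        cj_eq_of_mem_normalizer (le_normalizer_LL P A (hP.le hs))]
    have hne' : N ⊓ centralizer (LL P A : Set G) ≠ ⊥ := fun h0 => hne (by
      rw [eq_bot_iff, ← h0]
      exact le_inf inf_le_left hfix)
    obtain ⟨z, hz, hz1, hzN⟩ := exists_zc (inf_le_left.trans hNS) (fun d hd => hNsq d hd.1) hn hne'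
    exact hz1 (not_cent_LL hc hP hcz hA.le hAne hz hzN.2)
  rw [hbot, card_bot, mul_one] at hcard
  exact (Subgroup.eq_of_le_of_card_ge hWN (hcard.trans hXc)).symm

end Cfsg.Agent.Omega.NOThreeL.FFB
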