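import Cfsg.Agent.Omega.NOThreeL.FFB.Tools
import Cfsg.Agent.Omega.NOThreeL.FFB.Rp2

/-!
# THEOREM FFB (#19580, helper275): the core

`S` a Sylow 2-subgroup, `P₁`, `P₂ ∈ P*(S)`, `V₁ = V_{P₁}`, `V₂ = V_{P₂}`, `W ≤ S` a 2-group such that every `W^h`,
`h ∈ P₁`, acts on `V₁V₂` like the group `W_F` of FLAT (`Core`).

* `Core.step` : (1), `T_h = C_{W^h}(V₁)` is exact or trivial on `V₂`, `C_{V₁V₂}(T_h) = V₁ C_{V₁V₂}(W^h)`;
* `Core.X0_le` : (2), `C_{V₂}(W~) ≤ V₁`, `W~ = ⟨C_W(V₁)^{P₁}⟩`;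
* `Core.off_two` : (3), `V₂` is FF;
* `Core.false` : (4).
-/

set_option autoImplicit false

namespace Cfsg.Agent.Omega.NOThreeL.FFB

open Subgroup Cfsg
open Cfsg.Agent.ZN
open Cfsg.Agent.ZN.ChoiceBase hiding mem_zc
open Cfsg.Agent.Omega.MinPar Cfsg.Agent.Omega.Frame Cfsg.Agent.Omega.FrameNOFF
open Cfsg.Agent.Omega.NO3b.EZero (NotFF cent_symm cj_cent cj_norm)
open Cfsg.Agent.Omega.FFThm (ElemM OffM NoOverM ConclM relIndex_le_iff)
open Cfsg.Agent.Omega.NOThreeL.Star (card_sup_mul rel_mul_card)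
open Cfsg.Agent.Omega.NOThreeL.NF
open Cfsg.Agent.MinSimple.VModule (mem_zc zc_le zc_sq zc_comm le_centralizer_zc zc_le_zl zl_le
  le_normalizer_zl normalizer_le_normalizer_zc le_normalizer_o2 o2_isPGroup o2_le)
open scoped commutatorElement

universe u

variable {G : Type u} [Group G]

/-! ### Fixed points modulo a normal subgroup -/

/-- A 2-group `X` acting on `T / K` has a fixed point. -/
theorem exists_fix_mod [Finite G] {X K T : Subgroup G} (hX : IsPGroup 2 X) (hT : T ≤ X)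
    (hXT : X ≤ normalizer (T : Set G)) (hXK : X ≤ normalizer (K : Set G)) (hne : ¬ T ≤ K) :
    ∃ o ∈ T, o ∉ K ∧ ∀ x ∈ X, x * o * x⁻¹ * o⁻¹ ∈ K := by
  have hf : Fact (Nat.Prime 2) := ⟨Nat.prime_two⟩
  have hKn : (K.subgroupOf X).Normal := normal_subgroupOf_of_le_normalizer hXK
  have hTn : (T.subgroupOf X).Normal := normal_subgroupOf_of_le_normalizer hXT
  have hQ : IsPGroup 2 (X ⧸ K.subgroupOf X) := hX.to_quotient _
  have hnil : Group.IsNilpotent (X ⧸ K.subgroupOf X) := hQ.isNilpotent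
  have hTm : ((T.subgroupOf X).map (QuotientGroup.mk' (K.subgroupOf X))).Normal :=
    hTn.map _ (QuotientGroup.mk'_surjective _)
  have h1 : (T.subgroupOf X).map (QuotientGroup.mk' (K.subgroupOf X)) ≠ ⊥ := by
    intro h0
    apply hne
    intro t ht
    have h2 : QuotientGroup.mk' (K.subgroupOf X) ⟨t, hT ht⟩ ∈
        (T.subgroupOf X).map (QuotientGroup.mk' (K.subgroupOf X)) := ⟨_, ht, rfl⟩
    rw [h0, mem_bot] at h2
    exact (QuotientGroup.eq_one_iff (⟨t, hT ht⟩ : X)).1 h2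
  have h2 := Lib.NormalAbelian.normal_inf_center_ne_bot _ h1
  obtain ⟨⟨x, hx⟩, hx1⟩ := Subgroup.ne_bot_iff_exists_ne_one.1 h2
  obtain ⟨⟨o, ho, hox⟩, hcen⟩ := hx
  refine ⟨o, ho, fun hK => hx1 (Subtype.ext ?_), fun y hy => ?_⟩
  · change x = 1
    rw [← hox]
    exact (QuotientGroup.eq_one_iff o).2 hK
  · have h3 := mem_center_iff.1 hcen (QuotientGroup.mk' (K.subgroupOf X) ⟨y, hy⟩)
    rw [← hox, ← map_mul, ← map_mul] at h3
    have h4 : QuotientGroup.mk' (K.subgroupOf X) ((⟨y, hy⟩ : X) * o * (⟨y, hy⟩ : X)⁻¹ * o⁻¹) = 1 := by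
      rw [map_mul, map_mul, h3, ← map_mul, ← map_mul]
      have e : o * (⟨y, hy⟩ : X) * (⟨y, hy⟩ : X)⁻¹ * o⁻¹ = 1 := by group
      rw [e, map_one]
    exact mem_subgroupOf.1 ((QuotientGroup.eq_one_iff (N := K.subgroupOf X)
      ((⟨y, hy⟩ : X) * o * (⟨y, hy⟩ : X)⁻¹ * o⁻¹)).1 h4)

variable [Finite G]

/-- The situation of THEOREM FFB. -/
structure Core (S : Sylow 2 G) (P₁ P₂ W : Subgroup G) : Prop where
  hc : IsCharacteristicTwoType G
  hS : (S : Subgroup G) ≠ ⊥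
  par₁ : IsParS (S : Subgroup G) P₁
  par₂ : IsParS (S : Subgroup G) P₂
  cz₁ : zc (S : Subgroup G) ⊓ centralizer (P₁ : Set G) = ⊥
  comm : zl (S : Subgroup G) P₁ ≤ centralizer (zl (S : Subgroup G) P₂ : Set G)
  le : W ≤ (S : Subgroup G)
  ne : ¬ W ≤ centralizer (zl (S : Subgroup G) P₁ : Set G)
  elem : ∀ h ∈ P₁, ElemM (zl (S : Subgroup G) P₁ ⊔ zl (S : Subgroup G) P₂) (cj h W)
  off : ∀ h ∈ P₁, ∀ Y ≤ zl (S : Subgroup G) P₁ ⊔ zl (S : Subgroup G) P₂,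
    (centralizer (cj h W : Set G)).relIndex Y ≤ (centralizer (Y : Set G)).relIndex (cj h W)
  quad : ∀ h ∈ P₁, ∀ v ∈ zl (S : Subgroup G) P₂, ∀ w ∈ cj h W, ⁅v, w⁆ ∈ centralizer (cj h W : Set G)
  no₁ : NoOverM (zl (S : Subgroup G) P₁) P₁
  no₂ : (∃ A : Subgroup G, A ≤ P₂ ∧ OffM (zl (S : Subgroup G) P₂) A) → NoOverM (zl (S : Subgroup G) P₂) P₂
  rp₁ : RP (S : Subgroup G) P₁
  rp₂ : (∃ A : Subgroup G, A ≤ P₂ ∧ OffM (zl (S : Subgroup G) P₂) A) → RP (S : Subgroup G) P₂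
  rp2 : (∃ A : Subgroup G, A ≤ P₂ ∧ OffM (zl (S : Subgroup G) P₂) A) → RP2 (S : Subgroup G) P₂
  abs₁ : (∃ A : Subgroup G, A ≤ P₂ ∧ OffM (zl (S : Subgroup G) P₂) A) → ∀ z ∈ zc (S : Subgroup G), z ≠ 1 →
    ∀ p ∈ P₁, P₁ ≤ (S : Subgroup G) ⊔ cj p (S : Subgroup G) → p * z * p⁻¹ ∉ zl (S : Subgroup G) P₂
  abs₂ : ∀ z ∈ zc (S : Subgroup G), z ≠ 1 → ∀ p ∈ P₂, P₂ ≤ (S : Subgroup G) ⊔ cj p (S : Subgroup G) →
    p * z * p⁻¹ ∉ zl (S : Subgroup G) P₁

omit [Finite G] in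
theorem ElemM.mono_left {V V' A : Subgroup G} (h : ElemM V A) (hV : V' ≤ V) : ElemM V' A :=
  ⟨fun a ha => centralizer_le hV (h.sq a ha), fun a ha b hb => centralizer_le hV (h.comm a ha b hb)⟩

omit [Finite G] in
theorem ElemM.mono_right {V A A' : Subgroup G} (h : ElemM V A) (hA : A' ≤ A) : ElemM V A' :=
  ⟨fun a ha => h.sq a (hA ha), fun a ha b hb => h.comm a (hA ha) b (hA hb)⟩

theorem zl_comm' (hc : IsCharacteristicTwoType G) {S : Sylow 2 G} {P : Subgroup G} (hP : IsParS (S : Subgroup G) P) :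
    zl (S : Subgroup G) P ≤ centralizer (zl (S : Subgroup G) P : Set G) := by
  intro x hx
  rw [mem_centralizer_iff]
  intro y hy
  exact zc_comm _ _ (hP.isLoc.zl_le S hc hy) _ (hP.isLoc.zl_le S hc hx)

theorem zl_sq' (hc : IsCharacteristicTwoType G) {S : Sylow 2 G} {P : Subgroup G} (hP : IsParS (S : Subgroup G) P) :
    ∀ v ∈ zl (S : Subgroup G) P, v ^ 2 = 1 := fun v hv => zc_sq _ v (hP.isLoc.zl_le S hc hv)

theorem zl_le_S' (hc : IsCharacteristicTwoType G) {S : Sylow 2 G} {P : Subgroup G} (hP : IsParS (S : Subgroup G) P) :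
    zl (S : Subgroup G) P ≤ (S : Subgroup G) :=
  ((hP.isLoc.zl_le S hc).trans (zc_le _)).trans (hP.isLoc.o2_le S)

variable {S : Sylow 2 G} {P₁ P₂ W : Subgroup G}

/-- `T_h` -/
def TT (V₁ W : Subgroup G) (h : G) : Subgroup G := cj h W ⊓ centralizer (V₁ : Set G)

/-- `W~` -/
def Wt (V₁ P₁ W : Subgroup G) : Subgroup G := LL P₁ (W ⊓ centralizer (V₁ : Set G))

namespace Core

variable (c : Core S P₁ P₂ W)
include c

local notation "V₁" => zl (S : Subgroup G) P₁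
local notation "V₂" => zl (S : Subgroup G) P₂

theorem D_comm : V₁ ⊔ V₂ ≤ centralizer ((V₁ ⊔ V₂ : Subgroup G) : Set G) :=
  sup_le (cent_symm (sup_le (zl_comm' c.hc c.par₁) (cent_symm c.comm)))
    (cent_symm (sup_le c.comm (zl_comm' c.hc c.par₂)))

theorem D_sq : ∀ d ∈ V₁ ⊔ V₂, d ^ 2 = 1 := by
  intro d hd
  obtain ⟨a, ha, b, hb, rfl⟩ := mem_sup_of_comm c.comm hd
  have h1 : a * b = b * a := (mem_centralizer_iff.1 (c.comm ha) b hb).symm
  rw [(show Commute a b from h1).mul_pow, zl_sq' c.hc c.par₁ a ha, zl_sq' c.hc c.par₂ b hb, one_mul]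

theorem D_le : V₁ ⊔ V₂ ≤ (S : Subgroup G) := sup_le (zl_le_S' c.hc c.par₁) (zl_le_S' c.hc c.par₂)

theorem D_norm : (S : Subgroup G) ≤ normalizer ((V₁ ⊔ V₂ : Subgroup G) : Set G) := by
  intro s hs
  apply mem_normalizer_of_cj_le
  change (V₁ ⊔ V₂).map _ ≤ _
  rw [Subgroup.map_sup]
  refine sup_le_sup (le_of_eq (cj_eq_of_mem_normalizer ?_)) (le_of_eq (cj_eq_of_mem_normalizer ?_))
  · exact le_normalizer_zl _ _ (c.par₁.le hs)
  · exact le_normalizer_zl _ _ (c.par₂.le hs)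

omit [Finite G] in
theorem W_le : W ≤ P₁ := c.le.trans c.par₁.le

omit [Finite G] in
theorem cjW_le {h : G} (hh : h ∈ P₁) : cj h W ≤ P₁ := by
  have := cj_mono h c.W_le
  rwa [cj_eq_of_mem_normalizer (le_normalizer hh)] at this

omit [Finite G] c in
theorem TT_eq {h : G} (hh : h ∈ P₁) : TT V₁ W h = cj h (W ⊓ centralizer (V₁ : Set G)) := by
  unfold TT
  rw [cj_inf, cj_centralizer, cj_eq_of_mem_normalizer (le_normalizer_zl (S : Subgroup G) P₁ hh)]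

theorem W0_le : W ⊓ centralizer (V₁ : Set G) ≤ o2 P₁ := by
  rw [← c.par₁.inf_centralizer S c.hc]
  exact inf_le_inf_right _ c.le

theorem Wt_le : Wt V₁ P₁ W ≤ o2 P₁ := LL_le fun p hp => by
  have := cj_mono p c.W0_le
  rwa [cj_eq_of_mem_normalizer (le_normalizer_o2 P₁ hp)] at this

theorem TT_le_Wt {h : G} (hh : h ∈ P₁) : TT V₁ W h ≤ Wt V₁ P₁ W := by
  rw [TT_eq hh]; exact cj_le_LL hh

theorem o2_le_S : o2 P₁ ≤ (S : Subgroup G) := c.par₁.isLoc.o2_le S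

omit c in
theorem Wt_norm : P₁ ≤ normalizer (Wt V₁ P₁ W : Set G) := le_normalizer_LL _ _

theorem Wt_cent : Wt V₁ P₁ W ≤ centralizer (V₁ : Set G) := c.Wt_le.trans (cent_o2 c.hc c.par₁)

/-- **(1)** -/
theorem step {h : G} (hh : h ∈ P₁) :
    (centralizer (V₁ : Set G)).relIndex (cj h W) = (centralizer (cj h W : Set G)).relIndex V₁ ∧
      (centralizer (V₂ : Set G)).relIndex (TT V₁ W h) = (centralizer (TT V₁ W h : Set G)).relIndex V₂ ∧
      (V₁ ⊔ V₂) ⊓ centralizer (TT V₁ W h : Set G) = V₁ ⊔ ((V₁ ⊔ V₂) ⊓ centralizer (cj h W : Set G)) := by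
  have hT : TT V₁ W h ≤ P₂ := ((c.TT_le_Wt hh).trans c.Wt_le).trans (c.o2_le_S.trans c.par₂.le)
  have hE : ElemM V₂ (TT V₁ W h) := ElemM.mono_right (ElemM.mono_left (c.elem h hh) le_sup_right) inf_le_left
  refine exact_step (zl_comm' c.hc c.par₁) (zl_comm' c.hc c.par₂) c.comm (c.off h hh _ le_rfl) ?_ ?_
  · exact relIndex_le_iff.1 (c.no₁ _ (c.cjW_le hh) (ElemM.mono_left (c.elem h hh) le_sup_left))
  · change (centralizer (V₂ : Set G)).relIndex (TT V₁ W h) ≤ (centralizer (TT V₁ W h : Set G)).relIndex V₂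
    by_cases h1 : TT V₁ W h ≤ centralizer (V₂ : Set G)
    · rw [relIndex_eq_one.2 h1]
      have h2 : (centralizer (TT V₁ W h : Set G)).relIndex V₂ ≠ 0 := Subgroup.FiniteIndex.index_ne_zero
        (H := (centralizer (TT V₁ W h : Set G)).subgroupOf V₂)
      omega
    · by_contra hcon
      have h3 : OffM V₂ (TT V₁ W h) := ⟨hE, h1, relIndex_le_iff.2 (le_of_not_ge hcon)⟩
      exact hcon (relIndex_le_iff.1 (c.no₂ ⟨_, hT, h3⟩ _ hT hE))

theorem off_TT {h : G} (hh : h ∈ P₁) (hne : ¬ TT V₁ W h ≤ centralizer (V₂ : Set G)) :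
    OffM V₂ (TT V₁ W h) :=
  ⟨ElemM.mono_right (ElemM.mono_left (c.elem h hh) le_sup_right) inf_le_left, hne,
    relIndex_le_iff.2 (c.step hh).2.1.ge⟩

theorem exists_good' : ∃ h ∈ P₁, P₁ ≤ (S : Subgroup G) ⊔ cj h W := exists_good c.hc c.par₁ c.le c.ne

theorem exists_z : ∃ z ∈ zc (S : Subgroup G), z ≠ 1 := by
  obtain ⟨a, ha⟩ := Subgroup.ne_bot_iff_exists_ne_one.1 (MinSimple.Basic.zc_ne_bot S.isPGroup' c.hS)
  exact ⟨a, a.2, fun h0 => ha (Subtype.ext h0)⟩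

/-- `C_D(W~) = V₁ C_{V₂}(W~)` -/
theorem D0_eq : (V₁ ⊔ V₂) ⊓ centralizer (Wt V₁ P₁ W : Set G) = V₁ ⊔ (V₂ ⊓ centralizer (Wt V₁ P₁ W : Set G)) := by
  refine le_antisymm ?_ (sup_le (le_inf le_sup_left (cent_symm c.Wt_cent)) (inf_le_inf_right _ le_sup_right))
  rintro d ⟨hd, hd2⟩
  obtain ⟨a, ha, b, hb, rfl⟩ := mem_sup_of_comm c.comm hd
  refine mul_mem ((le_sup_left : V₁ ≤ _) ha) ((le_sup_right : V₂ ⊓ _ ≤ _) ⟨hb, ?_⟩)
  have h1 := mul_mem (inv_mem (cent_symm c.Wt_cent ha)) hd2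
  rwa [inv_mul_cancel_left] at h1

/-- **(2)** -/
theorem X0_le : V₂ ⊓ centralizer (Wt V₁ P₁ W : Set G) ≤ V₁ := by
  obtain ⟨h, hh, hgood⟩ := c.exists_good'
  set D := V₁ ⊔ V₂ with hD
  set D0 := D ⊓ centralizer (Wt V₁ P₁ W : Set G) with hD0
  have hV1D0 : V₁ ≤ D0 := le_inf le_sup_left (cent_symm c.Wt_cent)
  have hX0D0 : V₂ ⊓ centralizer (Wt V₁ P₁ W : Set G) ≤ D0 := inf_le_inf_right _ le_sup_right
  have hV1n : P₁ ≤ normalizer (V₁ : Set G) := le_normalizer_zl _ _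
  -- `D0 = V₁ C_{D0}(W^h)`
  have key : ∀ d ∈ D0, ∃ v ∈ V₁, ∃ e ∈ D0, e ∈ centralizer (cj h W : Set G) ∧ d = v * e := by
    intro d hd
    have h1 : d ∈ D ⊓ centralizer (TT V₁ W h : Set G) := ⟨hd.1, centralizer_le (c.TT_le_Wt hh) hd.2⟩
    rw [(c.step hh).2.2] at h1
    have h2 : V₁ ≤ centralizer ((D ⊓ centralizer (cj h W : Set G) : Subgroup G) : Set G) :=
      le_sup_left.trans (c.D_comm.trans (centralizer_le inf_le_left))
    obtain ⟨v, hv, e, he, rfl⟩ := mem_sup_of_comm h2 h1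
    refine ⟨v, hv, e, ?_, he.2, rfl⟩
    have h3 := mul_mem (inv_mem (hV1D0 hv)) hd
    rwa [inv_mul_cancel_left] at h3
  have htr : ∀ w ∈ cj h W, ∀ d ∈ D0, w * d * w⁻¹ * d⁻¹ ∈ V₁ := by
    intro w hw d hd
    obtain ⟨v, hv, e, he, hec, rfl⟩ := key d hd
    have h1 : w * e = e * w := mem_centralizer_iff.1 hec w hw
    have h2 : w * v * w⁻¹ ∈ V₁ := (mem_normalizer_iff.1 (hV1n (c.cjW_le hh hw)) v).1 hv
    have e1 : w * (v * e) * w⁻¹ * (v * e)⁻¹ = (w * v * w⁻¹) * v⁻¹ := by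
      calc w * (v * e) * w⁻¹ * (v * e)⁻¹ = w * v * w⁻¹ * (w * e) * w⁻¹ * e⁻¹ * v⁻¹ := by group
        _ = w * v * w⁻¹ * v⁻¹ := by rw [h1]; group
    rw [e1]
    exact mul_mem h2 (inv_mem hv)
  have hPN : P₁ ≤ normalizer (D0 : Set G) := by
    refine hgood.trans (sup_le (fun s hs => ?_) fun w hw => ?_)
    · apply mem_normalizer_of_cj_le
      rw [hD0, cj_inf, cj_centralizer, cj_eq_of_mem_normalizer (c.D_norm hs),
        cj_eq_of_mem_normalizer (Wt_norm (c.par₁.le hs))]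
    · apply mem_normalizer_of_cj_le
      rintro _ ⟨d, hd, rfl⟩
      have h1 := htr w hw d hd
      have e : (MulAut.conj w).toMonoidHom d = (w * d * w⁻¹ * d⁻¹) * d := by
        change w * d * w⁻¹ = _; group
      rw [e]
      exact mul_mem (hV1D0 h1) hd
  have htriv : ∀ l ∈ LL P₁ W, ∀ n ∈ D0, l * n * l⁻¹ * n⁻¹ ∈ V₁ := by
    have h1 : LL P₁ W ≤ KK D0 V₁ hV1D0 := by
      refine LL_le fun p hp => ?_
      rintro _ ⟨a, ha, rfl⟩
      have haP : a ∈ P₁ := c.W_le ha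
      have hpa : p * a * p⁻¹ ∈ P₁ := mul_mem (mul_mem hp haP) (inv_mem hp)
      refine ⟨hPN hpa, hV1n hpa, fun n hn => ?_⟩
      set y := p * h⁻¹ with hy
      have hyP : y ∈ P₁ := mul_mem hp (inv_mem hh)
      have hn' : y⁻¹ * n * y ∈ D0 := (mem_normalizer_iff''.1 (hPN hyP) n).1 hn
      have h2 := htr (h * a * h⁻¹) ⟨a, ha, rfl⟩ _ hn'
      have h3 := (mem_normalizer_iff.1 (hV1n hyP) _).1 h2
      change p * a * p⁻¹ * n * (p * a * p⁻¹)⁻¹ * n⁻¹ ∈ V₁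
      have e : p * a * p⁻¹ * n * (p * a * p⁻¹)⁻¹ * n⁻¹ =
          y * (h * a * h⁻¹ * (y⁻¹ * n * y) * (h * a * h⁻¹)⁻¹ * (y⁻¹ * n * y)⁻¹) * y⁻¹ := by
        rw [hy]; group
      rwa [e]
    exact fun l hl n hn => (h1 hl).2.2 n hn
  have hD0c : D0 ≤ centralizer (D0 : Set G) := inf_le_left.trans (c.D_comm.trans (centralizer_le inf_le_left))
  have hD0sq : ∀ n ∈ D0, n ^ 2 = 1 := fun n hn => c.D_sq n hn.1
  have hD0S : D0 ≤ (S : Subgroup G) := inf_le_left.trans c.D_le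
  by_cases hQ : o2 P₁ ≤ centralizer (D0 : Set G)
  · -- `D0 = V₁`
    have hoffW : OffM V₁ W := by
      have h1 := c.off 1 (one_mem _) V₁ le_sup_left
      have h2 := c.elem 1 (one_mem _)
      rw [cj_one] at h1 h2
      exact ⟨ElemM.mono_left h2 le_sup_left, c.ne, relIndex_le_iff.2 h1⟩
    obtain ⟨A, hAW, hA⟩ := exists_minOff c.le hoffW
    -- `D0 = V₁ C_{D0}(A)`
    have hsup : V₁ ⊔ (D0 ⊓ centralizer (A : Set G)) = D0 := by
      refine le_antisymm (sup_le hV1D0 inf_le_left) fun d hd => ?_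
      have hd' : h * d * h⁻¹ ∈ D0 := (mem_normalizer_iff.1 (hPN hh) d).1 hd
      obtain ⟨v, hv, e, he, hec, hve⟩ := key _ hd'
      have e1 : d = (h⁻¹ * v * h) * (h⁻¹ * e * h) := by
        have : d = h⁻¹ * (h * d * h⁻¹) * h := by group
        rw [this, hve]; group
      rw [e1]
      refine mul_mem ((le_sup_left : V₁ ≤ _) ((mem_normalizer_iff''.1 (hV1n hh) v).1 hv))
        ((le_sup_right : D0 ⊓ _ ≤ _) ⟨(mem_normalizer_iff''.1 (hPN hh) e).1 he, mem_centralizer_iff.2 fun a ha => ?_⟩)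
      have h3 := mem_centralizer_iff.1 hec (h * a * h⁻¹) ⟨a, hAW ha, rfl⟩
      have e2 : a * (h⁻¹ * e * h) = h⁻¹ * (h * a * h⁻¹ * e) * h := by group
      have e3 : h⁻¹ * e * h * a = h⁻¹ * (e * (h * a * h⁻¹)) * h := by group
      rw [e2, e3, h3]
    have hrel : (centralizer (A : Set G)).relIndex D0 ≤ (centralizer (V₁ : Set G)).relIndex A := by
      refine le_trans ?_ (relIndex_le_iff.1 hA.off.le)
      have s1 := card_sup_mul hD0c hV1D0 (inf_le_left : D0 ⊓ centralizer (A : Set G) ≤ D0)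
      rw [hsup, ← inf_assoc, inf_eq_left.2 hV1D0] at s1
      have r1 := rel_mul_card D0 (centralizer (A : Set G))
      have r2 := rel_mul_card V₁ (centralizer (A : Set G))
      have p1 : 0 < Nat.card ↥(V₁ ⊓ centralizer (A : Set G)) := Nat.card_pos
      have p2 : 0 < Nat.card ↥(D0 ⊓ centralizer (A : Set G)) := Nat.card_pos
      have h3 : (centralizer (A : Set G)).relIndex D0 *
          (Nat.card ↥(D0 ⊓ centralizer (A : Set G)) * Nat.card ↥(V₁ ⊓ centralizer (A : Set G))) =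
          (centralizer (A : Set G)).relIndex V₁ *
          (Nat.card ↥(D0 ⊓ centralizer (A : Set G)) * Nat.card ↥(V₁ ⊓ centralizer (A : Set G))) := by
        rw [← mul_assoc, r1, s1, ← r2]; ring
      exact (Nat.eq_of_mul_eq_mul_right (Nat.mul_pos p2 p1) h3).le
    have h4 := eq_line c.hc c.par₁ c.cz₁ c.rp₁ hA hV1D0 hD0sq hD0S hPN hQ
      (fun l hl n hn => htriv l (LL_le (fun p hp => (cj_mono p hAW).trans (cj_le_LL hp)) hl) n hn) hrel
    exact hX0D0.trans h4.le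
  · exfalso
    -- `D1 = [D0, O₂(P₁)] ≤ X0`
    have hD1 : ⁅D0, o2 P₁⁆ ≤ V₂ ⊓ centralizer (Wt V₁ P₁ W : Set G) := by
      rw [commutator_le]
      intro n hn g hg
      rw [hD0, c.D0_eq] at hn
      have hcm : V₁ ≤ centralizer ((V₂ ⊓ centralizer (Wt V₁ P₁ W : Set G) : Subgroup G) : Set G) :=
        c.comm.trans (centralizer_le inf_le_left)
      obtain ⟨w, hw, w', hw', rfl⟩ := mem_sup_of_comm hcm hn
      have hgS : g ∈ (S : Subgroup G) := c.o2_le_S hg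
      have h1 : g * w = w * g := (mem_centralizer_iff.1 (cent_o2 c.hc c.par₁ hg) w hw).symm
      have hXn : g ∈ normalizer ((V₂ ⊓ centralizer (Wt V₁ P₁ W : Set G) : Subgroup G) : Set G) := by
        apply mem_normalizer_of_cj_le
        rw [cj_inf, cj_centralizer, cj_eq_of_mem_normalizer (le_normalizer_zl (S : Subgroup G) P₂ (c.par₂.le hgS)),
          cj_eq_of_mem_normalizer (Wt_norm (c.par₁.le hgS))]
      have h2 := (mem_normalizer_iff.1 hXn _).1 (inv_mem hw')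
      have h3 := mul_mem hw' h2
      have h4 : w * (w' * (g * w'⁻¹ * g⁻¹)) = w' * (g * w'⁻¹ * g⁻¹) * w :=
        (mem_centralizer_iff.1 (c.comm hw) _ h3.1).symm
      have e : ⁅w * w', g⁆ = w' * (g * w'⁻¹ * g⁻¹) := by
        rw [commutatorElement_def]
        have h5 : g * w⁻¹ = w⁻¹ * g := by
          rw [eq_inv_mul_iff_mul_eq, ← mul_assoc, ← h1, mul_inv_cancel_right]
        calc w * w' * g * (w * w')⁻¹ * g⁻¹ = w * (w' * g * w'⁻¹) * w⁻¹ * g⁻¹ := by group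
          _ = w * (w' * (g * w'⁻¹ * g⁻¹)) * (g * w⁻¹) * g⁻¹ := by group
          _ = w' * (g * w'⁻¹ * g⁻¹) * w * (w⁻¹ * g) * g⁻¹ := by rw [h4, h5]
          _ = _ := by group
      rw [e]
      exact h3
    have hDn : P₁ ≤ normalizer ((⁅D0, o2 P₁⁆ : Subgroup G) : Set G) := by
      intro p hp
      apply mem_normalizer_of_cj_le
      change (⁅D0, o2 P₁⁆ : Subgroup G).map _ ≤ _
      rw [Subgroup.map_commutator]
      exact commutator_mono (le_of_eq (cj_eq_of_mem_normalizer (hPN hp)))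
        (le_of_eq (cj_eq_of_mem_normalizer (le_normalizer_o2 P₁ hp)))
    have hDne : (⁅D0, o2 P₁⁆ : Subgroup G) ≠ ⊥ := fun h0 =>
      hQ (cent_symm (commutator_eq_bot_iff_le_centralizer.1 h0))
    have hD1V : ⁅D0, o2 P₁⁆ ≤ V₂ := hD1.trans inf_le_left
    obtain ⟨z, hz, hz1, hzD⟩ := exists_zc (hD1V.trans (zl_le_S' c.hc c.par₂))
      (fun d hd => zl_sq' c.hc c.par₂ d (hD1V hd)) (c.par₁.le.trans hDn) hDne
    by_cases hoff : ∃ A : Subgroup G, A ≤ P₂ ∧ OffM V₂ A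
    · refine c.abs₁ hoff z hz hz1 h hh (hgood.trans (sup_le_sup_left (cj_mono h c.le) _)) ?_
      exact hD1V ((mem_normalizer_iff.1 (hDn hh) z).1 hzD)
    · have hWc : W ≤ centralizer (V₂ : Set G) := by
        by_contra hne
        have h1 := c.off 1 (one_mem _) V₂ le_sup_right
        have h2 := c.elem 1 (one_mem _)
        rw [cj_one] at h1 h2
        exact hoff ⟨W, c.le.trans c.par₂.le, ElemM.mono_left h2 le_sup_right, hne, relIndex_le_iff.2 h1⟩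
      have hL : LL P₁ W ≤ centralizer ((⁅D0, o2 P₁⁆ : Subgroup G) : Set G) := by
        refine LL_le fun p hp => ?_
        have h1 := cj_cent (g := p) (hWc.trans (centralizer_le hD1V))
        rwa [cj_eq_of_mem_normalizer (hDn hp)] at h1
      exact hz1 (not_cent_LL c.hc c.par₁ c.cz₁ c.le c.ne hz (cent_symm hL hzD))

/-- **(3)** -/
theorem exists_TT : ∃ h ∈ P₁, ¬ TT V₁ W h ≤ centralizer (V₂ : Set G) := by
  by_contra hcon
  push Not at hcon
  have h1 : Wt V₁ P₁ W ≤ centralizer (V₂ : Set G) := LL_le fun p hp => by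
    rw [← TT_eq hp]; exact hcon p hp
  have h2 : V₂ ≤ V₁ := (le_inf le_rfl (cent_symm h1)).trans c.X0_le
  obtain ⟨p, hp, hpS⟩ := exists_conj_sup c.par₂
  obtain ⟨z, hz, hz1⟩ := c.exists_z
  exact c.abs₂ z hz hz1 p hp hpS (h2 ((mem_normalizer_iff.1 (le_normalizer_zl (S : Subgroup G) P₂ hp) z).1
    (zc_le_zl _ _ hz)))

theorem off_two : ∃ A : Subgroup G, A ≤ P₂ ∧ OffM V₂ A := by
  obtain ⟨h, hh, hne⟩ := c.exists_TT
  exact ⟨_, ((c.TT_le_Wt hh).trans c.Wt_le).trans (c.o2_le_S.trans c.par₂.le), c.off_TT hh hne⟩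

/-- `T_x` is generated by minimal offenders. -/
theorem TT_gen {x : G} (hx : x ∈ P₁) : TT V₁ W x ≤
    sSup {B : Subgroup G | B ≤ TT V₁ W x ∧ MinOffM V₂ (S : Subgroup G) B} ⊔ centralizer (V₂ : Set G) := by
  by_cases h1 : TT V₁ W x ≤ centralizer (V₂ : Set G)
  · exact h1.trans le_sup_right
  · exact (c.rp2 c.off_two).gen _ (((c.TT_le_Wt hx).trans c.Wt_le).trans c.o2_le_S) (c.off_TT hx h1)

/-- `W~` contains minimal offenders with every commutator. -/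
theorem exists_min {B : Subgroup G} (hB : MinOffM V₂ (S : Subgroup G) B) :
    ∃ B' : Subgroup G, B' ≤ Wt V₁ P₁ W ∧ MinOffM V₂ (S : Subgroup G) B' ∧ ⁅V₂, B'⁆ = ⁅V₂, B⁆ := by
  obtain ⟨h, hh, hne⟩ := c.exists_TT
  obtain ⟨B0, hB0, hm0⟩ := exists_minOff (((c.TT_le_Wt hh).trans c.Wt_le).trans c.o2_le_S) (c.off_TT hh hne)
  obtain ⟨s, hs, he⟩ := (c.rp₂ c.off_two).conj B0 B hm0 hB
  have hSV : (S : Subgroup G) ≤ normalizer (V₂ : Set G) := c.par₂.le.trans (le_normalizer_zl _ _)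
  refine ⟨cj s B0, ?_, NatR.minOffM_cj hSV hm0 hs, ?_⟩
  · have h1 := cj_mono s (hB0.trans (c.TT_le_Wt hh))
    rwa [cj_eq_of_mem_normalizer (Wt_norm (c.par₁.le hs))] at h1
  · rw [NatR.comm_cj s (hSV hs), he]

/-- **(4)** -/
theorem cent_comm {h : G} (hh : h ∈ P₁) {B : Subgroup G} (hB : MinOffM V₂ (S : Subgroup G) B) :
    ⁅V₂, B⁆ ≤ centralizer (cj h W : Set G) := by
  have r2 := c.rp2 c.off_two
  have r1 := c.rp₂ c.off_two
  by_cases hcase : ∃ B' : Subgroup G, B' ≤ TT V₁ W h ∧ MinOffM V₂ (S : Subgroup G) B' ∧ ⁅V₂, B'⁆ = ⁅V₂, B⁆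
  · obtain ⟨B', hB', -, he⟩ := hcase
    rw [← he, commutator_le]
    exact fun v hv w hw => c.quad h hh v hv w (hB' hw).1
  push Not at hcase
  set U : Subgroup G := sSup {B' : Subgroup G | MinOffM V₂ (S : Subgroup G) B' ∧ ⁅V₂, B'⁆ ≠ ⁅V₂, B⁆} with hU
  set N : Subgroup G := V₂ ⊓ centralizer (U : Set G) with hN
  have hNV : N ≤ V₂ := inf_le_left
  have hUle : ∀ B' : Subgroup G, MinOffM V₂ (S : Subgroup G) B' → ⁅V₂, B'⁆ ≠ ⁅V₂, B⁆ → B' ≤ centralizer (N : Set G) :=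
    fun B' h1 h2 => (le_sSup (s := {B' : Subgroup G | MinOffM V₂ (S : Subgroup G) B' ∧ ⁅V₂, B'⁆ ≠ ⁅V₂, B⁆})
      ⟨h1, h2⟩).trans (cent_symm inf_le_right)
  have hBV : B ≤ normalizer (V₂ : Set G) := (hB.le.trans c.par₂.le).trans (le_normalizer_zl _ _)
  have hRV : ⁅V₂, B⁆ ≤ V₂ := by
    rw [commutator_le]
    intro w hw b hb
    have hb' := (mem_normalizer_iff.1 (hBV hb) _).1 (inv_mem hw)
    have e : ⁅w, b⁆ = w * (b * w⁻¹ * b⁻¹) := by rw [commutatorElement_def]; group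
    rw [e]; exact mul_mem hw hb'
  have hRN : ⁅V₂, B⁆ ≤ N := by
    refine le_inf hRV (cent_symm (sSup_le fun B' hB' => cent_symm ?_))
    have := r1.cent B B' hB hB'.1 1 (one_mem _)
    rwa [cj_one] at this
  -- `[y, b] ∈ R`
  have hcomm : ∀ b ∈ B, ∀ y ∈ V₂, b * y * b⁻¹ * y⁻¹ ∈ ⁅V₂, B⁆ := by
    intro b hb y hy
    have h1 : ⁅b, y⁆ ∈ ⁅V₂, B⁆ := by rw [commutator_comm]; exact commutator_mem_commutator hb hy
    rwa [commutatorElement_def] at h1
  have hBN : B ≤ normalizer (N : Set G) := by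
    intro b hb
    apply mem_normalizer_of_cj_le
    rintro _ ⟨y, hy, rfl⟩
    have e : (MulAut.conj b).toMonoidHom y = (b * y * b⁻¹ * y⁻¹) * y := by
      change b * y * b⁻¹ = _; group
    rw [e]
    exact mul_mem (hRN (hcomm b hb y hy.1)) hy
  have hBC : B ≤ normalizer (centralizer (N : Set G) : Set G) := by
    intro b hb
    apply mem_normalizer_of_cj_le
    rw [cj_centralizer, cj_eq_of_mem_normalizer (hBN hb)]
  -- `T_x ≤ B C(N)`
  have hTx : ∀ x ∈ P₁, TT V₁ W x ≤ B ⊔ centralizer (N : Set G) := by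
    intro x hx
    refine (c.TT_gen hx).trans (sup_le (sSup_le fun B' hB' => ?_) ((centralizer_le hNV).trans le_sup_right))
    by_cases he : ⁅V₂, B'⁆ = ⁅V₂, B⁆
    · intro b' hb'
      obtain ⟨a, ha, hac⟩ := r2.eq B B' hB hB'.2 he.symm b' hb'
      have e : b' = a * (a⁻¹ * b') := by group
      rw [e]
      exact mul_mem ((le_sup_left : B ≤ _) ha) ((le_sup_right : centralizer (N : Set G) ≤ _) (centralizer_le hNV hac))
    · exact (hUle B' hB'.2 he).trans le_sup_right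
  have hWtB : Wt V₁ P₁ W ≤ B ⊔ centralizer (N : Set G) := LL_le fun p hp => by
    rw [← TT_eq hp]; exact hTx p hp
  -- `T_h` centralises `N`
  have hThN : TT V₁ W h ≤ centralizer (N : Set G) := by
    refine (c.TT_gen hh).trans (sup_le (sSup_le fun B' hB' => ?_) (centralizer_le hNV))
    exact hUle B' hB'.2 (hcase B' hB'.1 hB'.2)
  -- `W~` does not centralise `N`
  obtain ⟨B'', hB''W, hB''m, hB''e⟩ := c.exists_min hB
  have hnn : ∀ b ∈ B, b ∉ centralizer (V₂ : Set G) → ∀ r ∈ ⁅V₂, B⁆, ∃ y ∈ N, b * y * b⁻¹ * y⁻¹ = r := by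
    intro b hb hbc r hr
    obtain ⟨y, hy, hyc, hyr⟩ := r2.nn B hB b hb hbc r hr
    have h1 : U ≤ centralizer ({y} : Set G) := by
      refine sSup_le fun B' hB' b' hb' => ?_
      rw [mem_centralizer_singleton_iff]
      exact mem_centralizer_iff.1 (hyc B' hB'.1 hB'.2) b' hb'
    exact ⟨y, ⟨hy, mem_centralizer_iff.2 fun u hu => mem_centralizer_singleton_iff.1 (h1 hu)⟩, hyr⟩
  have hRne : ∃ r ∈ ⁅V₂, B⁆, r ≠ 1 := by
    by_contra hcon
    push Not at hcon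
    apply hB.off.ne
    have h1 : ⁅V₂, B⁆ = ⊥ := (Subgroup.eq_bot_iff_forall _).2 hcon
    exact cent_symm (commutator_eq_bot_iff_le_centralizer.1 h1)
  have hBn : ∀ b ∈ B, b ∈ centralizer (N : Set G) → b ∈ centralizer (V₂ : Set G) := by
    intro b hb hbN
    by_contra hbc
    obtain ⟨r, hr, hr1⟩ := hRne
    obtain ⟨y, hy, hyr⟩ := hnn b hb hbc r hr
    apply hr1
    rw [← hyr, ← mem_centralizer_iff.1 hbN y hy]
    group
  have hWtN : ¬ Wt V₁ P₁ W ≤ centralizer (N : Set G) := by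
    intro h0
    apply hB''m.off.ne
    intro b'' hb''
    obtain ⟨a, ha, hac⟩ := r2.eq B B'' hB hB''m hB''e.symm b'' hb''
    have h1 : a ∈ centralizer (N : Set G) := by
      have h2 := mul_mem (h0 (hB''W hb'')) (inv_mem (centralizer_le hNV hac))
      have e : b'' * (a⁻¹ * b'')⁻¹ = a := by group
      rwa [e] at h2
    have h3 := mul_mem (hBn a ha h1) hac
    rwa [mul_inv_cancel_left] at h3
  -- the action of `w`
  intro r hr
  rw [mem_centralizer_iff]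
  intro w hw
  have hwP : w ∈ P₁ := c.cjW_le hh hw
  have hWS : Wt V₁ P₁ W ≤ (S : Subgroup G) := c.Wt_le.trans c.o2_le_S
  have hconj : ∀ y ∈ N, ∀ o ∈ Wt V₁ P₁ W,
      w * (o * y * o⁻¹ * y⁻¹) * w⁻¹ = (w * o * w⁻¹) * y * (w * o * w⁻¹)⁻¹ * y⁻¹ := by
    intro y hy o ho
    have hyD : y ∈ (V₁ ⊔ V₂) ⊓ centralizer (TT V₁ W h : Set G) :=
      ⟨(le_sup_right : V₂ ≤ _) (hNV hy), cent_symm hThN hy⟩
    rw [(c.step hh).2.2] at hyD
    have h2 : V₁ ≤ centralizer (((V₁ ⊔ V₂) ⊓ centralizer (cj h W : Set G) : Subgroup G) : Set G) :=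
      le_sup_left.trans (c.D_comm.trans (centralizer_le inf_le_left))
    obtain ⟨v, hv, e, he, hve⟩ := mem_sup_of_comm h2 hyD
    have hwe : w * e = e * w := mem_centralizer_iff.1 he.2 w hw
    set v' := w * v * w⁻¹ * v⁻¹ with hv'
    have hv'V : v' ∈ V₁ := mul_mem ((mem_normalizer_iff.1 (le_normalizer_zl (S : Subgroup G) P₁ hwP) v).1 hv) (inv_mem hv)
    have h3 : w * y * w⁻¹ = v' * y := by
      rw [← hve, hv']
      calc w * (v * e) * w⁻¹ = w * v * w⁻¹ * (w * e) * w⁻¹ := by group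
        _ = w * v * w⁻¹ * v⁻¹ * (v * e) := by rw [hwe]; group
    set o' := w * o * w⁻¹ with ho'
    have ho'W : o' ∈ Wt V₁ P₁ W := (mem_normalizer_iff.1 (Wt_norm hwP) o).1 ho
    have h4 : o' * v' = v' * o' := (mem_centralizer_iff.1 (c.Wt_cent ho'W) v' hv'V).symm
    have h5 : o' * y * o'⁻¹ ∈ V₂ :=
      (mem_normalizer_iff.1 (le_normalizer_zl (S : Subgroup G) P₂ (c.par₂.le (hWS ho'W))) y).1 (hNV hy)
    have h6 : v' * (o' * y * o'⁻¹ * y⁻¹) = (o' * y * o'⁻¹ * y⁻¹) * v' :=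
      (mem_centralizer_iff.1 (c.comm hv'V) _ (mul_mem h5 (inv_mem (hNV hy)))).symm
    calc w * (o * y * o⁻¹ * y⁻¹) * w⁻¹ = o' * (w * y * w⁻¹) * o'⁻¹ * (w * y * w⁻¹)⁻¹ := by
          rw [ho']; group
      _ = (o' * v') * y * o'⁻¹ * y⁻¹ * v'⁻¹ := by rw [h3]; group
      _ = v' * (o' * y * o'⁻¹ * y⁻¹) * v'⁻¹ := by rw [h4]; group
      _ = _ := by rw [h6]; group
  -- a fixed point of `w` on `W~ / C(N)`
  have hWtNN : Wt V₁ P₁ W ≤ normalizer (N : Set G) := fun o ho => by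
    obtain ⟨b, hb, d, hd, rfl⟩ := exists_mul_of_sup hBC (hWtB ho)
    refine mul_mem (hBN hb) ?_
    apply mem_normalizer_of_cj_le
    rintro _ ⟨y, hy, rfl⟩
    have e : (MulAut.conj d).toMonoidHom y = y := by
      change d * y * d⁻¹ = y
      rw [← mem_centralizer_iff.1 hd y hy]; group
    rw [e]; exact hy
  set K : Subgroup G := Wt V₁ P₁ W ⊓ centralizer (N : Set G) with hK
  have hwK : w ∈ normalizer (K : Set G) := by
    apply mem_normalizer_of_cj_le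
    rintro _ ⟨o, ho, rfl⟩
    refine ⟨(mem_normalizer_iff.1 (Wt_norm hwP) o).1 ho.1, mem_centralizer_iff.2 fun y hy => ?_⟩
    change y * (w * o * w⁻¹) = (w * o * w⁻¹) * y
    have h1 := hconj y hy o ho.1
    have h2 : o * y * o⁻¹ * y⁻¹ = 1 := by
      rw [← mem_centralizer_iff.1 ho.2 y hy]; group
    rw [h2, mul_one, mul_inv_cancel] at h1
    have h3 : (w * o * w⁻¹) * y = y * (w * o * w⁻¹) := by
      have e : (w * o * w⁻¹) * y = ((w * o * w⁻¹) * y * (w * o * w⁻¹)⁻¹ * y⁻¹) * (y * (w * o * w⁻¹)) := by group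
      rw [e, ← h1, one_mul]
    exact h3.symm
  have hw2 : IsPGroup 2 (zpowers w) := (isPGroup_cj h (S.isPGroup'.to_le c.le)).to_le (zpowers_le.2 hw)
  have hzW : zpowers w ≤ normalizer (Wt V₁ P₁ W : Set G) := zpowers_le.2 (Wt_norm hwP)
  have hX2 : IsPGroup 2 (zpowers w ⊔ Wt V₁ P₁ W : Subgroup G) :=
    IsPGroup.to_sup_of_normal_right' hw2 (S.isPGroup'.to_le hWS) hzW
  obtain ⟨o, ho, hoK, hfix⟩ := exists_fix_mod (K := K) hX2 (le_sup_right : Wt V₁ P₁ W ≤ _)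
    (sup_le hzW le_normalizer) (sup_le (zpowers_le.2 hwK) (by
      intro o ho
      apply mem_normalizer_of_cj_le
      rw [hK, cj_inf, cj_centralizer, cj_eq_of_mem_normalizer (le_normalizer ho),
        cj_eq_of_mem_normalizer (hWtNN ho)])) (fun h0 => hWtN (h0.trans inf_le_right))
  have hoN : o ∉ centralizer (N : Set G) := fun h0 => hoK ⟨ho, h0⟩
  have hwo := hfix w ((le_sup_left : zpowers w ≤ _) (mem_zpowers w))
  -- `r = [o, y]`
  obtain ⟨b, hb, d, hd, hod⟩ := exists_mul_of_sup hBC (hWtB ho)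
  have hbc : b ∉ centralizer (V₂ : Set G) := fun h0 => hoN (by
    rw [hod]; exact mul_mem (centralizer_le hNV h0) hd)
  obtain ⟨y, hy, hyr⟩ := hnn b hb hbc r hr
  have hdy : d * y * d⁻¹ = y := by rw [← mem_centralizer_iff.1 hd y hy]; group
  have hro : o * y * o⁻¹ * y⁻¹ = r := by
    rw [← hyr, hod]
    calc b * d * y * (b * d)⁻¹ * y⁻¹ = b * (d * y * d⁻¹) * b⁻¹ * y⁻¹ := by group
      _ = _ := by rw [hdy]
  have hoy : o * y * o⁻¹ ∈ N := (mem_normalizer_iff.1 (hWtNN ho) y).1 hy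
  have h1 := hconj y hy o ho
  set k := w * o * w⁻¹ * o⁻¹ with hk
  have hky : k * (o * y * o⁻¹) = (o * y * o⁻¹) * k := (mem_centralizer_iff.1 hwo.2 _ hoy).symm
  have h2 : (w * o * w⁻¹) * y * (w * o * w⁻¹)⁻¹ * y⁻¹ = o * y * o⁻¹ * y⁻¹ := by
    have e : w * o * w⁻¹ = k * o := by rw [hk]; group
    rw [e]
    calc k * o * y * (k * o)⁻¹ * y⁻¹ = (k * (o * y * o⁻¹)) * k⁻¹ * y⁻¹ := by group
      _ = _ := by rw [hky]; group
  rw [h2, hro] at h1
  exact mul_inv_eq_iff_eq_mul.1 h1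

/-- **THEOREM FFB.** -/
theorem false : False := by
  obtain ⟨h, hh, hgood⟩ := c.exists_good'
  obtain ⟨z, hz, hz1⟩ := c.exists_z
  obtain ⟨h', hh', hne⟩ := c.exists_TT
  obtain ⟨A, -, hA⟩ := exists_minOff (((c.TT_le_Wt hh').trans c.Wt_le).trans c.o2_le_S) (c.off_TT hh' hne)
  have hSV : (S : Subgroup G) ≤ normalizer (V₂ : Set G) := c.par₂.le.trans (le_normalizer_zl _ _)
  have h1 : z ∈ centralizer (cj h W : Set G) := by
    have h2 : sSup (pts V₂ (S : Subgroup G) A) ≤ centralizer (cj h W : Set G) := by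
      refine sSup_le ?_
      rintro _ ⟨s, hs, rfl⟩
      rw [← NatR.comm_cj s (hSV hs)]
      exact c.cent_comm hh (NatR.minOffM_cj hSV hA hs)
    exact h2 ((c.rp₂ c.off_two).zfull A hA z hz hz1).1
  apply hz1
  have h3 : P₁ ≤ centralizer ({z} : Set G) := by
    refine hgood.trans (sup_le (fun s hs => ?_) fun w hw => ?_)
    · rw [mem_centralizer_singleton_iff]
      exact (mem_zc.1 hz).2.1 s hs
    · rw [mem_centralizer_singleton_iff]
      exact mem_centralizer_iff.1 h1 w hw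
  have h4 : z ∈ zc (S : Subgroup G) ⊓ centralizer (P₁ : Set G) :=
    ⟨hz, mem_centralizer_iff.2 fun p hp => mem_centralizer_singleton_iff.1 (h3 hp)⟩
  rwa [c.cz₁, mem_bot] at h4

end Core

end Cfsg.Agent.Omega.NOThreeL.FFB
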