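import Cfsg.Agent.Omega.NOThreeL.NF.SymRp
import Cfsg.Agent.Omega.NOThreeL.NF.Final
import Cfsg.Agent.Omega.NOThreeL.FFB.Rp2

/-!
# THEOREM FFB (#19580): the second interface `RP2` for even-subset modules; `RP2` from the FF theorem

* `rp2_of_symKM` : `RP2` for even-subset modules;
* `rp2` : `RP2 S P` for every `P ∈ P*(S)` with an offender on `V_P`, in `DataZ`.
-/

set_option autoImplicit false

namespace Cfsg.Agent.Omega.NOThreeL.FFB

open Subgroup Cfsg Cfsg.Agent.ZN Cfsg.Agent.ZN.ChoiceBase Cfsg.Agent.Omega.MinPar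
open Cfsg.Agent.Omega.FFThm (ElemM OffM NoOverM ConclM SymK SymKM ActsSym relIndex_le_iff)
open Cfsg.Agent.Omega.Half (Amb)
open Cfsg.Agent.Omega.Half.SymA
open Cfsg.Agent.Omega.NOThreeL.NF (MinOffM)
open Cfsg.Agent.Omega.NOThreeL.NF.SymRP
open Cfsg.Agent.Omega.NOThreeL.FourLine (mem_zpowers_iff)
open Cfsg.Agent.Omega.NOThreeL.Basic (DataZ)
open scoped Classical commutatorElement

universe u

variable {G : Type u} [Group G] [Finite G] {S : Sylow 2 G} {P V : Subgroup G} {k m : ℕ}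

omit [Finite G] in
/-- `⟨b⟩` modulo the square -/
theorem zpowers_two {b : G} (hb2 : b ^ 2 ∈ centralizer (V : Set G)) :
    ∀ x ∈ zpowers b, x ∈ centralizer (V : Set G) ∨ x * b ∈ centralizer (V : Set G) := by
  rintro x ⟨n, rfl⟩
  have key : ∀ j : ℤ, b ^ (2 * j) ∈ centralizer (V : Set G) := fun j => by
    rw [zpow_mul]
    exact zpow_mem (by exact_mod_cast hb2) j
  rcases Int.even_or_odd n with ⟨j, hj⟩ | ⟨j, hj⟩
  · left
    have : n = 2 * j := by omega
    simp only [this]
    exact key j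
  · right
    have : b ^ n * b = b ^ (2 * (j + 1)) := by rw [← zpow_add_one, hj]; congr 1; ring
    simp only [this]
    exact key _

/-- A transposition generates an offender. -/
theorem offM_zpowers (N : SymK (S : Subgroup G) P V ⊥ k m) (hA : Amb (S : Subgroup G) P V) (hm : 1 ≤ m)
    {A : Subgroup G} (hE : ElemM V A) (hAS : A ≤ (S : Subgroup G)) {b : G} (hb : b ∈ A) {p q : Pt k m} (hpq : p ≠ q)
    (hπ : Mv N b (Equiv.swap p q)) : OffM V (zpowers b) := by
  have hAP : A ≤ P := hAS.trans hA.TH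
  have hbP : b ∈ P := hAP hb
  have hbn : b ∉ centralizer (V : Set G) := fun h0 => by
    rw [mem_cent_iff hA hbP hm hπ] at h0
    exact hpq (Equiv.swap_eq_one_iff.1 h0)
  have hsub : zpowers b ≤ A := zpowers_le.2 hb
  have hBne : ¬ zpowers b ≤ centralizer (V : Set G) := fun h0 => hbn (h0 (mem_zpowers b))
  refine ⟨⟨fun a ha => hE.sq a (hsub ha), fun a ha c hc => hE.comm a (hsub ha) c (hsub hc)⟩, hBne, ?_⟩
  rw [FFThm.relIndex_le_iff]
  have h1 : (centralizer ((zpowers b : Subgroup G) : Set G)).relIndex V ≤ 2 := by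
    have hiff : ∀ v ∈ V, v ∈ centralizer ((zpowers b : Subgroup G) : Set G) ↔ E N v p = E N v q := by
      intro v hv
      constructor
      · intro h1
        refine eq_of_comm hπ hv ?_
        rw [mem_centralizer_iff.1 h1 b (mem_zpowers b), mul_inv_cancel_right]
      · intro h1
        have h2 := comm_of_eq hA hbP hπ hv h1
        rw [mul_inv_eq_iff_eq_mul] at h2
        rw [← zpowers_le, le_centralizer_iff, zpowers_le, mem_centralizer_iff]
        rintro _ ⟨j, rfl⟩
        have h3 : Commute b v := h2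
        exact (h3.zpow_right j).eq.symm
    refine rel_le_two fun v hv w hw h1 h2 => ?_
    rw [hiff v hv] at h1
    rw [hiff w hw] at h2
    rw [hiff _ (mul_mem hv hw), E_mul N hv hw, E_mul N hv hw]
    revert h1 h2
    generalize E N v p = a
    generalize E N v q = b
    generalize E N w p = c
    generalize E N w q = d
    revert a b c d
    decide
  have h2 : 2 ≤ (centralizer (V : Set G)).relIndex (zpowers b) := by
    have h2 : (centralizer (V : Set G)).relIndex (zpowers b) ≠ 0 :=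
      FiniteIndex.index_ne_zero (H := (centralizer (V : Set G)).subgroupOf (zpowers b))
    have h3 : (centralizer (V : Set G)).relIndex (zpowers b) ≠ 1 := fun h0 => hBne (relIndex_eq_one.1 h0)
    omega
  exact h1.trans h2

/-- A transposition in `T` is generated by minimal offenders. -/
theorem mem_of_swap (N : SymK (S : Subgroup G) P V ⊥ k m) (hA : Amb (S : Subgroup G) P V) (hm : 1 ≤ m)
    {T : Subgroup G} (hE : ElemM V T) (hT : T ≤ (S : Subgroup G)) {b : G} (hb : b ∈ T) {p q : Pt k m} (hpq : p ≠ q)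
    (hπ : Mv N b (Equiv.swap p q)) :
    b ∈ sSup {B : Subgroup G | B ≤ T ∧ MinOffM V (S : Subgroup G) B} ⊔ centralizer (V : Set G) := by
  have hsub : zpowers b ≤ T := zpowers_le.2 hb
  obtain ⟨B, hB, hmin⟩ := exists_minOff (hsub.trans hT) (offM_zpowers N hA hm hE hT hb hpq hπ)
  obtain ⟨c, hc, hcn⟩ := SetLike.not_le_iff_exists.1 hmin.off.ne
  have h1 := (zpowers_two (V := V) (hE.sq b hb) c (hB hc)).resolve_left hcn
  have e : b = c⁻¹ * (c * b) := by group
  rw [e]
  refine mul_mem ((le_sup_left : _ ≤ _ ⊔ centralizer (V : Set G)) ?_) ((le_sup_right : centralizer (V : Set G) ≤ _) h1)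
  exact inv_mem ((le_sSup (a := B) (show B ∈ {B : Subgroup G | B ≤ T ∧ MinOffM V (S : Subgroup G) B} from
    ⟨hB.trans hsub, hmin⟩)) hc)

theorem sym_gen (M : SymKM (S : Subgroup G) P V ⊥ k m) (hA : Amb (S : Subgroup G) P V) (hm : 1 ≤ m)
    {T : Subgroup G} (hT : T ≤ (S : Subgroup G)) (hoff : OffM V T) :
    T ≤ sSup {B : Subgroup G | B ≤ T ∧ MinOffM V (S : Subgroup G) B} ⊔ centralizer (V : Set G) := by
  obtain ⟨-, h1⟩ := M.offM T hT hoff
  set N := M.toSymK with hN
  set K := sSup {B : Subgroup G | B ≤ T ∧ MinOffM V (S : Subgroup G) B} ⊔ centralizer (V : Set G) with hK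
  have hTP : T ≤ P := hT.trans hA.TH
  have main : ∀ n : ℕ, ∀ a ∈ T, ∀ π : Equiv.Perm (Pt k m), Mv N a π →
      (∀ p, π p ≠ p → π (π p) = p ∧ ∃ b ∈ T, Mv N b (Equiv.swap p (π p))) →
      (Finset.univ.filter fun p => π p ≠ p).card = n → a ∈ K := by
    intro n
    induction n using Nat.strong_induction_on with
    | _ n ih =>
      intro a ha π hπ hmv hn
      by_cases h0 : ∀ p, π p = p
      · have h2 : π = 1 := by ext1 p; exact h0 p
        exact (le_sup_right : _ ≤ K) ((mem_cent_iff hA (hTP ha) hm hπ).2 h2)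
      push Not at h0
      obtain ⟨p, hp⟩ := h0
      obtain ⟨hpp, b, hb, hbπ⟩ := hmv p hp
      set q := π p with hq
      have hbK : b ∈ K := mem_of_swap N hA hm hoff.toElemM hT hb (Ne.symm hp) hbπ
      have hba : b * a ∈ T := mul_mem hb ha
      have hbaπ : Mv N (b * a) (Equiv.swap p q * π) := hbπ.mul hA hπ (hTP ha)
      have e1 : (Equiv.swap p q * π) p = p := by
        rw [Equiv.Perm.mul_apply, ← hq, Equiv.swap_apply_right]
      have e2 : (Equiv.swap p q * π) q = q := by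
        rw [Equiv.Perm.mul_apply, hpp, Equiv.swap_apply_left]
      have e0 : ∀ r, r ≠ p → r ≠ q → π r ≠ p ∧ π r ≠ q := by
        intro r hrp hrq
        refine ⟨fun h3 => hrq ?_, fun h3 => hrp ?_⟩
        · apply π.injective
          rw [h3, hpp]
        · apply π.injective
          rw [h3, ← hq]
      have e3 : ∀ r, r ≠ p → r ≠ q → (Equiv.swap p q * π) r = π r := by
        intro r hrp hrq
        obtain ⟨h3, h4⟩ := e0 r hrp hrq
        rw [Equiv.Perm.mul_apply, Equiv.swap_apply_of_ne_of_ne h3 h4]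
      have hne : ∀ r, (Equiv.swap p q * π) r ≠ r → r ≠ p ∧ r ≠ q := by
        intro r hr
        constructor
        · rintro rfl; exact hr e1
        · rintro rfl; exact hr e2
      have hlt : (Finset.univ.filter fun r => (Equiv.swap p q * π) r ≠ r).card < n := by
        rw [← hn]
        apply Finset.card_lt_card
        rw [Finset.ssubset_iff_of_subset]
        · exact ⟨p, by simpa using hp, fun h0 => (Finset.mem_filter.1 h0).2 e1⟩
        · intro r hr
          rw [Finset.mem_filter] at hr ⊢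
          refine ⟨Finset.mem_univ _, ?_⟩
          obtain ⟨h3, h4⟩ := hne r hr.2
          rw [← e3 r h3 h4]
          exact hr.2
      have h5 : b * a ∈ K := by
        refine ih _ hlt (b * a) hba _ hbaπ (fun r hr => ?_) rfl
        obtain ⟨h3, h4⟩ := hne r hr
        obtain ⟨h6, h7⟩ := e0 r h3 h4
        rw [e3 r h3 h4] at hr ⊢
        rw [e3 _ h6 h7]
        exact hmv r hr
      have e : a = b⁻¹ * (b * a) := by group
      rw [e]
      exact mul_mem (inv_mem hbK) h5
  intro a ha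
  obtain ⟨τ, hτ, hb⟩ := h1 a ha
  refine main _ a ha (pm 1 τ) (mv_pm N hτ) ?_ rfl
  rintro ⟨i, x⟩ hix
  have hx : τ i x ≠ x := fun h0 => hix (Prod.ext rfl h0)
  obtain ⟨h2, b, hbT, h3⟩ := hb i x hx
  refine ⟨Prod.ext rfl h2, b, hbT, ?_⟩
  have h4 := mv_pm N h3
  have h5 := pm_swap (k := k) (m := m) (p := (i, x)) (q := (i, τ i x)) rfl
  change pm 1 (Function.update 1 i (Equiv.swap x (τ i x))) = _ at h5
  rw [h5] at h4
  exact h4

omit [Finite G] in
/-- two minimal offenders with the same commutator move the same points -/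
theorem swap_eq {N : SymK (S : Subgroup G) P V ⊥ k m} (hA : Amb (S : Subgroup G) P V) (hm : 1 ≤ m)
    {A B : Subgroup G} {p q p' q' : Pt k m} (h : AD N A p q) (h' : AD N B p' q') (he : ⁅V, A⁆ = ⁅V, B⁆) :
    Equiv.swap p q = Equiv.swap p' q' := by
  obtain ⟨c, hc⟩ := exists_isC (M := N) h.sw.2.1
  obtain ⟨c', hc'⟩ := exists_isC (M := N) h'.sw.2.1
  rw [h.comm_eq hA hm hc, h'.comm_eq hA hm hc'] at he
  have h1 : c' ∈ zpowers c := by rw [he]; exact mem_zpowers c'
  rcases (mem_zpowers_iff (sq_one hA hc.1)).1 h1 with h2 | h2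
  · exact absurd h2 (hc'.ne_one h'.sw.1)
  have h3 : p' = p ∨ p' = q := by
    by_contra hcon
    push Not at hcon
    have h4 := hc.zero hcon.1 hcon.2
    rw [← h2, hc'.left h'.sw.1] at h4
    exact one_ne_zero h4
  have h5 : q' = p ∨ q' = q := by
    by_contra hcon
    push Not at hcon
    have h4 := hc.zero hcon.1 hcon.2
    rw [← h2, hc'.right h'.sw.1] at h4
    exact one_ne_zero h4
  have h6 := h'.sw.1
  rcases h3 with rfl | rfl <;> rcases h5 with rfl | rfl
  · exact absurd rfl h6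
  · rfl
  · rw [Equiv.swap_comm]
  · exact absurd rfl h6

theorem sym_eq (M : SymKM (S : Subgroup G) P V ⊥ k m) (hA : Amb (S : Subgroup G) P V) (hm : 1 ≤ m)
    {A B : Subgroup G} (h : MinOffM V (S : Subgroup G) A) (h' : MinOffM V (S : Subgroup G) B)
    (he : ⁅V, A⁆ = ⁅V, B⁆) {b : G} (hb : b ∈ B) : ∃ a ∈ A, a⁻¹ * b ∈ centralizer (V : Set G) := by
  obtain ⟨⟨p, q, had⟩, -⟩ := exists_ad M hA hm h
  obtain ⟨⟨p', q', had'⟩, -⟩ := exists_ad M hA hm h'
  have h1 := swap_eq hA hm had had' he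
  rcases had'.all b hb with h2 | h2
  · exact ⟨1, one_mem _, by rwa [inv_one, one_mul]⟩
  · obtain ⟨a, ha, haπ⟩ := had.ex
    refine ⟨a, ha, ?_⟩
    have haP := hA.TH (had.le ha)
    have hbP := hA.TH (had'.le hb)
    rw [mem_cent_iff hA (mul_mem (inv_mem haP) hbP) hm ((haπ.inv hA haP).mul hA h2 hbP), h1, inv_mul_cancel]

theorem sym_nn (M : SymKM (S : Subgroup G) P V ⊥ k m) (hA : Amb (S : Subgroup G) P V) (hm : 1 ≤ m)
    {B : Subgroup G} (h : MinOffM V (S : Subgroup G) B) {b : G} (hb : b ∈ B) (hbc : b ∉ centralizer (V : Set G))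
    {r : G} (hr : r ∈ ⁅V, B⁆) :
    ∃ y ∈ V, (∀ B' : Subgroup G, MinOffM V (S : Subgroup G) B' → ⁅V, B'⁆ ≠ ⁅V, B⁆ → y ∈ centralizer (B' : Set G)) ∧
      b * y * b⁻¹ * y⁻¹ = r := by
  obtain ⟨⟨p, q, had⟩, -⟩ := exists_ad M hA hm h
  obtain ⟨c, hc⟩ := exists_isC (M := M.toSymK) had.sw.2.1
  have hcm := had.comm_eq hA hm hc
  rw [hcm] at hr
  rcases (mem_zpowers_iff (sq_one hA hc.1)).1 hr with rfl | rfl
  · exact ⟨1, one_mem _, fun _ _ _ => one_mem _, by group⟩
  have hπ := (had.all b hb).resolve_left hbc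
  have hbP : b ∈ P := hA.TH (had.le hb)
  obtain ⟨y, hy⟩ := exists_isC (M := M.toSymK) (p := p) (q := (p.1, 0)) rfl
  have hp0 : p ≠ (p.1, 0) := fun h0 => had.sw.nz hA hm (congrArg Prod.snd h0)
  have hq0 : q ≠ (p.1, 0) := fun h0 => had.sw.symm.nz hA hm (congrArg Prod.snd h0)
  refine ⟨y, hy.1, fun B' hB' hne => ?_, ?_⟩
  · obtain ⟨⟨p', q', had'⟩, -⟩ := exists_ad M hA hm hB'
    have hp' : p' ≠ p := by
      rintro rfl
      apply hne
      have h1 := had'.sw.uniq hA S.isPGroup' hm had.sw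
      subst h1
      rw [hcm, had'.comm_eq hA hm hc]
    have hq' : q' ≠ p := by
      rintro rfl
      apply hne
      have h1 := had'.sw.symm.uniq hA S.isPGroup' hm had.sw
      subst h1
      rw [hcm, had'.comm_eq hA hm hc.symm]
    have e1 : E M.toSymK y p' = 0 := hy.zero hp' fun h0 => had'.sw.nz hA hm (congrArg Prod.snd h0)
    have e2 : E M.toSymK y q' = 0 := hy.zero hq' fun h0 => had'.sw.symm.nz hA hm (congrArg Prod.snd h0)
    rw [mem_centralizer_iff]
    intro b' hb'
    rcases had'.all b' hb' with h4 | h4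
    · exact (mem_centralizer_iff.1 h4 y hy.1).symm
    · have h5 := comm_of_eq hA (hA.TH (had'.le hb')) h4 hy.1 (by rw [e1, e2])
      rwa [mul_inv_eq_iff_eq_mul] at h5
  · rcases commutator_eq hA had.sw.1 hbP hπ hy.1 hc with h3 | h3
    · exfalso
      rw [commutatorElement_eq_one_iff_mul_comm] at h3
      have h4 : E M.toSymK y p = E M.toSymK y q := eq_of_comm hπ hy.1 (by rw [← h3, mul_inv_cancel_right])
      rw [hy.left hp0, hy.zero had.sw.1.symm hq0] at h4
      exact one_ne_zero h4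
    · have h4 : b * y * b⁻¹ * y⁻¹ = ⁅y, b⁆⁻¹ := by rw [commutatorElement_def]; group
      rw [h4, h3, inv_eq_iff_mul_eq_one]
      exact sq_one hA hc.1

/-- **`RP2` for even-subset modules.** -/
theorem rp2_of_symKM (hG : IsCharacteristicTwoType G) (hP : IsLoc (S : Subgroup G) P)
    (hD : FrameFF.cv (S : Subgroup G) P = ⊥) (hm : 1 ≤ m)
    (M : SymKM (S : Subgroup G) P (zl (S : Subgroup G) P) (FrameFF.cv (S : Subgroup G) P) k m) :
    RP2 (S : Subgroup G) P := by
  rw [hD] at M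
  have hA : Amb (S : Subgroup G) P (zl (S : Subgroup G) P) := Half.amb_of_loc hG S hP
  exact ⟨fun T hT h => sym_gen M hA hm hT h, fun A B h h' he b hb => sym_eq M hA hm h h' he hb,
    fun B h b hb hbc r hr => sym_nn M hA hm h hb hbc hr⟩

/-- **`RP2` from the FF theorem.** -/
theorem rp2 (h : Frame.Ctx G) (D : DataZ (S : Subgroup G)) (hP : IsParS (S : Subgroup G) P)
    (hoff : ∃ A : Subgroup G, A ≤ P ∧ OffM (zl (S : Subgroup G) P) A) : RP2 (S : Subgroup G) P := by
  have hc := h.char2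
  have hcv : FrameFF.cv (S : Subgroup G) P = ⊥ := D.cv_eq hc hP
  obtain ⟨hno, hcon⟩ := StarEnd.stmtM G (S : Subgroup G) P (MinSimple.EmptyTI.syl_of_le hP.le)
    hP.toIsMinPar (hP.isLoc.char2 S hc) hoff
  rcases hcon with ⟨F, _, _, _, k, hk, ⟨M⟩⟩ | ⟨k, m, hk, hm, ⟨M⟩⟩
  · exact rp2_of_natKM hP.le hcv M
  · exact rp2_of_symKM hc hP.isLoc hcv (by omega) M

/-- `NoOverM` from the FF theorem. -/
theorem noOver (h : Frame.Ctx G) (hP : IsParS (S : Subgroup G) P)
    (hoff : ∃ A : Subgroup G, A ≤ P ∧ OffM (zl (S : Subgroup G) P) A) : NoOverM (zl (S : Subgroup G) P) P :=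
  (StarEnd.stmtM G (S : Subgroup G) P (MinSimple.EmptyTI.syl_of_le hP.le)
    hP.toIsMinPar (hP.isLoc.char2 S h.char2) hoff).1

end Cfsg.Agent.Omega.NOThreeL.FFB
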