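import Cfsg.Agent.Omega.NOThreeL.NF.Seven
import Cfsg.Agent.Omega.NOThreeL.MergeNF

/-!
# NO-3L: invariant families `Φ ⊆ P*(S)` which generate a nonlocal group with `C = C_G(Z)` (THEOREM FFB, #19580)

* `IsFam S Φ` : `Φ ⊆ P*(S)` is `N_G(S)`-invariant and every `P' ∈ P*(S)` is in `⟨P, C⟩` for some `P ∈ Φ`;
* `FM S` : the `P ∈ P*(S)` with `⟨P, C⟩` maximal; `fam_FM`;
* `exists_indep` : for `P ∈ FM S` there is `P' ∈ FM S` with `P' ≰ ⟨P, C⟩`, `P ≰ ⟨P', C⟩`;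
* `IsFam.nonLoc` : `⟨Φ, C⟩` is nonlocal; `IsFam.isLoc`, `IsFam.cs_le_o2` : `L = ⟨Φ⟩` is local, `C_S(V_L) ≤ O₂(L)`;
* `false_of` : THEOREM NF (7) for `Φ`.
-/

set_option autoImplicit false

namespace Cfsg.Agent.Omega.NOThreeL.FFB.Fam

open Subgroup Cfsg
open Cfsg.Agent.ZN (zl zc o2)
open Cfsg.Agent.ZN.ChoiceBase hiding mem_zc
open Cfsg.Agent.Omega.MinPar Cfsg.Agent.Omega.Frame Cfsg.Agent.Omega.FrameNOFF
open Cfsg.Agent.Omega.Node.NO3L
open Cfsg.Agent.Omega.NO3b.EZero (NotFF cent_symm cj_cent cj_norm)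
open Cfsg.Agent.Omega.NOThreeL.Basic (DataZ)
open Cfsg.Agent.Omega.NOThreeL.NF (exists_mul isParS_cj CZ_le_normalizer cj_mul_of_mem exists_conj)
open Cfsg.Agent.Omega.NOThreeL.Star (YS le_YS zl_mono)
open Cfsg.Agent.MinSimple.VModule (mem_zc zc_le zc_sq zc_comm le_centralizer_zc zc_le_zl zl_le
  le_normalizer_zl normalizer_le_normalizer_zc le_normalizer_o2 o2_isPGroup o2_le le_o2)

universe u

variable {G : Type u} [Group G]

/-- An `N_G(S)`-invariant family `Φ ⊆ P*(S)` such that every `P' ∈ P*(S)` is in `⟨P, C⟩` for some `P ∈ Φ`. -/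
structure IsFam (S : Subgroup G) (Φ : Set (Subgroup G)) : Prop where
  par : ∀ P ∈ Φ, IsParS S P
  conj : ∀ n ∈ normalizer (S : Set G), ∀ P ∈ Φ, cj n P ∈ Φ
  cover : ∀ P' : Subgroup G, IsParS S P' → ∃ P ∈ Φ, P' ≤ P ⊔ CZ S

/-- The `P ∈ P*(S)` with `⟨P, C⟩` maximal. -/
def FM (S : Subgroup G) : Set (Subgroup G) :=
  {P | IsParS S P ∧ ∀ P' : Subgroup G, IsParS S P' → P ⊔ CZ S ≤ P' ⊔ CZ S → P' ⊔ CZ S ≤ P ⊔ CZ S}

theorem cj_sup_CZ {S : Subgroup G} {n : G} (hn : n ∈ normalizer (S : Set G)) (P : Subgroup G) :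
    cj n (P ⊔ CZ S) = cj n P ⊔ CZ S := by
  have h1 : cj n (CZ S) = CZ S := by
    change cj n (centralizer (zc S : Set G)) = centralizer (zc S : Set G)
    rw [cj_centralizer, cj_eq_of_mem_normalizer (normalizer_le_normalizer_zc S hn)]
  conv_rhs => rw [← h1]
  exact Subgroup.map_sup _ _ _

variable [Finite G] {S : Sylow 2 G}

omit [Finite G] in
/-- `P*(S)` itself. -/
theorem fam_PS (S : Sylow 2 G) : IsFam (S : Subgroup G) {P | IsParS (S : Subgroup G) P} :=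
  ⟨fun _ h => h, fun _ hn _ hP => isParS_cj hP hn, fun P hP => ⟨P, hP, le_sup_left⟩⟩

theorem fam_FM (S : Sylow 2 G) : IsFam (S : Subgroup G) (FM (S : Subgroup G)) := by
  refine ⟨fun P hP => hP.1, fun n hn P hP => ⟨isParS_cj hP.1 hn, fun P' hP' hle => ?_⟩, fun P' hP' => ?_⟩
  · have h0 : P ⊔ CZ (S : Subgroup G) ≤ cj n⁻¹ P' ⊔ CZ (S : Subgroup G) := by
      rw [← cj_sup_CZ (inv_mem hn)]
      rw [← cj_sup_CZ hn] at hle
      have h1 := cj_mono n⁻¹ hle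
      rwa [cj_inv_cj] at h1
    have h1 := hP.2 (cj n⁻¹ P') (isParS_cj hP' (inv_mem hn)) h0
    rw [← cj_sup_CZ (inv_mem hn)] at h1
    have h2 := cj_mono n h1
    rwa [cj_cj_inv, cj_sup_CZ hn] at h2
  · obtain ⟨P, ⟨hP, hle⟩, hmax⟩ := Set.exists_max_image
      {P : Subgroup G | IsParS (S : Subgroup G) P ∧ P' ⊔ CZ (S : Subgroup G) ≤ P ⊔ CZ (S : Subgroup G)}
      (fun P : Subgroup G => Nat.card ↥(P ⊔ CZ (S : Subgroup G))) (Set.toFinite _) ⟨P', hP', le_rfl⟩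
    exact ⟨P, ⟨hP, fun P1 hP1 h1 =>
      (Subgroup.eq_of_le_of_card_ge h1 (hmax P1 ⟨hP1, hle.trans h1⟩)).ge⟩, le_sup_left.trans hle⟩

section fam

variable {Φ : Set (Subgroup G)}

omit [Finite G] in
theorem sSup_le_YS (hΦ : IsFam (S : Subgroup G) Φ) : sSup Φ ≤ YS (S : Subgroup G) :=
  sSup_le fun P hP => le_YS (hΦ.par P hP)

theorem nonempty (h : Ctx G) (hF : Full (S : Subgroup G)) (hΦ : IsFam (S : Subgroup G) Φ) : Φ.Nonempty := by
  obtain ⟨P, hP⟩ := h.exists_isParS hF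
  obtain ⟨P', hP', -⟩ := hΦ.cover P hP
  exact ⟨P', hP'⟩

theorem S_le (h : Ctx G) (hF : Full (S : Subgroup G)) (hΦ : IsFam (S : Subgroup G) Φ) :
    (S : Subgroup G) ≤ sSup Φ := by
  obtain ⟨P, hP⟩ := nonempty h hF hΦ
  exact (hΦ.par P hP).le.trans (le_sSup hP)

/-- `⟨Φ, C⟩` is nonlocal. -/
theorem nonLoc (h : Ctx G) (hF : Full (S : Subgroup G)) (hΦ : IsFam (S : Subgroup G) Φ) :
    NonLoc (sSup Φ) (CZ (S : Subgroup G)) := fun _ hU h1 h2 =>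
  eq_bot_of_norm h S hF hU (fun P' hP' => by
    obtain ⟨P, hP, hle⟩ := hΦ.cover P' hP'
    exact hle.trans (sup_le ((le_sSup hP).trans h1) h2)) h2

/-- For `P ∈ FM S` there is an independent `P' ∈ FM S`. -/
theorem exists_indep (h : Ctx G) (hF : Full (S : Subgroup G)) (D : Data (S : Subgroup G)) {P : Subgroup G}
    (hP : P ∈ FM (S : Subgroup G)) :
    ∃ P' ∈ FM (S : Subgroup G), ¬ P' ≤ P ⊔ CZ (S : Subgroup G) ∧ ¬ P ≤ P' ⊔ CZ (S : Subgroup G) := by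
  have hfam := fam_FM S
  have hL := D.loc P hP.1
  by_contra hcon
  push Not at hcon
  have h1 : ∀ P' ∈ FM (S : Subgroup G), P' ≤ P ⊔ CZ (S : Subgroup G) := by
    intro P' hP'
    by_contra h2
    apply h2
    have h3 := hcon P' hP' h2
    have h4 := hP.2 P' hP'.1 (sup_le h3 le_sup_right)
    exact le_sup_left.trans h4
  have h2 := nonLoc h hF hfam (o2 (P ⊔ CZ (S : Subgroup G))) (o2_isPGroup _)
    ((sSup_le h1).trans (le_normalizer_o2 _)) (le_sup_right.trans (le_normalizer_o2 _))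
  exact hL.loc.o2_ne h2

variable (hc : IsCharacteristicTwoType G) (hm : ¬ FF (S : Subgroup G))
include hc hm

theorem zl_comm (hΦ : IsFam (S : Subgroup G) Φ) :
    zl (S : Subgroup G) (sSup Φ) ≤ centralizer (zl (S : Subgroup G) (sSup Φ) : Set G) := by
  have h1 := zl_mono (S : Subgroup G) (sSup_le_YS hΦ)
  exact h1.trans ((Star.zl_comm hc hm).trans (centralizer_le h1))

theorem zl_sq (hΦ : IsFam (S : Subgroup G) Φ) : ∀ v ∈ zl (S : Subgroup G) (sSup Φ), v ^ 2 = 1 := fun v hv =>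
  Star.zl_sq hc hm v (zl_mono (S : Subgroup G) (sSup_le_YS hΦ) hv)

omit hm in
/-- `C_S(V_L)` is normalised by `L = ⟨Φ⟩`. -/
theorem le_norm_cs (hΦ : IsFam (S : Subgroup G) Φ) : sSup Φ ≤
    normalizer (((S : Subgroup G) ⊓ centralizer (zl (S : Subgroup G) (sSup Φ) : Set G) : Subgroup G) : Set G) := by
  refine sSup_le fun P hP => ?_
  have hPs := hΦ.par P hP
  have hVP : zl (S : Subgroup G) P ≤ zl (S : Subgroup G) (sSup Φ) := zl_mono _ (le_sSup hP)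
  have key : ∀ p ∈ P, ∀ x ∈ (S : Subgroup G) ⊓ centralizer (zl (S : Subgroup G) (sSup Φ) : Set G),
      p * x * p⁻¹ ∈ (S : Subgroup G) ⊓ centralizer (zl (S : Subgroup G) (sSup Φ) : Set G) := by
    intro p hp x hx
    refine ⟨?_, ?_⟩
    · have h1 : x ∈ o2 P := mem_o2_of_cent hc S hPs hx.1 (centralizer_le hVP hx.2)
      exact hPs.isLoc.o2_le S ((mem_normalizer_iff.1 (le_normalizer_o2 P hp) x).1 h1)
    · refine mem_centralizer_iff.2 fun v hv => ?_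
      have h2 := (mem_normalizer_iff''.1 (le_normalizer_zl (S : Subgroup G) (sSup Φ) (le_sSup hP hp)) v).1 hv
      have h3 := mem_centralizer_iff.1 hx.2 _ h2
      have e1 : v * (p * x * p⁻¹) = p * ((p⁻¹ * v * p) * x) * p⁻¹ := by group
      have e2 : p * x * p⁻¹ * v = p * (x * (p⁻¹ * v * p)) * p⁻¹ := by group
      rw [e1, e2, h3]
  intro p hp
  rw [mem_normalizer_iff]
  intro x
  refine ⟨key p hp x, fun hx => ?_⟩
  have h1 := key p⁻¹ (P.inv_mem hp) _ hx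
  have e : p⁻¹ * (p * x * p⁻¹) * p⁻¹⁻¹ = x := by group
  rwa [e] at h1

omit hm in
theorem cs_le_o2 (hΦ : IsFam (S : Subgroup G) Φ) (hSY : (S : Subgroup G) ≤ sSup Φ) :
    (S : Subgroup G) ⊓ centralizer (zl (S : Subgroup G) (sSup Φ) : Set G) ≤ o2 (sSup Φ) :=
  le_o2 (inf_le_left.trans hSY) (S.isPGroup'.to_le inf_le_left) (le_norm_cs hc hΦ)

theorem isLoc (hΦ : IsFam (S : Subgroup G) Φ) (hSY : (S : Subgroup G) ≤ sSup Φ) (hS : (S : Subgroup G) ≠ ⊥) :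
    IsLoc (S : Subgroup G) (sSup Φ) := by
  refine ⟨hSY, fun h0 => MinSimple.Basic.zc_ne_bot S.isPGroup' hS ?_⟩
  have h1 : zc (S : Subgroup G) ≤ (S : Subgroup G) ⊓ centralizer (zl (S : Subgroup G) (sSup Φ) : Set G) :=
    le_inf (zc_le _) ((zc_le_zl _ _).trans (zl_comm hc hm hΦ))
  exact le_bot_iff.1 (h0 ▸ h1.trans (cs_le_o2 hc hΦ hSY))

end fam

/-! ### THEOREM NF (7) for `Φ` -/

/-- If `Z^g ∈ Z^H` then `Z^{gh} ∈ Z^H` for all `h ∈ H = ⟨P, C⟩`, `P ∈ Φ`. -/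
theorem exists_conj_fam {Φ : Set (Subgroup G)} (hΦ : IsFam (S : Subgroup G) Φ) {P : Subgroup G} (hP : P ∈ Φ)
    (hZ : ∀ P' ∈ Φ, ∀ p' ∈ P', ∃ p ∈ P,
      cj p' (zc (S : Subgroup G)) = cj p (zc (S : Subgroup G)))
    {g : G} (hg : ∃ h ∈ P ⊔ CZ (S : Subgroup G), cj g (zc (S : Subgroup G)) = cj h (zc (S : Subgroup G)))
    {h : G} (hh : h ∈ P ⊔ CZ (S : Subgroup G)) :
    ∃ h₁ ∈ P ⊔ CZ (S : Subgroup G), cj (g * h) (zc (S : Subgroup G)) = cj h₁ (zc (S : Subgroup G)) := by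
  have key : ∀ y, y ∈ P ∨ y ∈ CZ (S : Subgroup G) → ∀ x : G,
      (∃ h₁ ∈ P ⊔ CZ (S : Subgroup G), cj (g * x) (zc (S : Subgroup G)) = cj h₁ (zc (S : Subgroup G))) →
      ∃ h₁ ∈ P ⊔ CZ (S : Subgroup G), cj (g * (x * y)) (zc (S : Subgroup G)) = cj h₁ (zc (S : Subgroup G)) := by
    rintro y (hy | hy) x ⟨h₁, hh₁, he⟩
    · -- `h₁⁻¹ g x ∈ N_G(Z)`
      have h2 : h₁⁻¹ * (g * x) ∈ normalizer (zc (S : Subgroup G) : Set G) := NO3b.EZero.cj_eq_cj_iff.1 he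
      obtain ⟨c, hc, n, hn, hcn⟩ := exists_mul h2
      obtain ⟨p, hp, hpe⟩ := hZ _ (hΦ.conj n hn P hP) (n * y * n⁻¹) (NO3b.EZero.mem_cj_self hy)
      refine ⟨h₁ * c * p, mul_mem (mul_mem hh₁ ((le_sup_right : CZ (S : Subgroup G) ≤ _) hc))
        ((le_sup_left : P ≤ _) hp), ?_⟩
      have e : g * (x * y) = h₁ * c * (n * y * n⁻¹) * n := by
        have h3 : g * x = h₁ * (c * n) := by rw [← hcn]; group
        calc g * (x * y) = g * x * y := by group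
          _ = h₁ * c * (n * y * n⁻¹) * n := by rw [h3]; group
      rw [e, cj_mul_of_mem (normalizer_le_normalizer_zc _ hn), ← cj_cj, hpe, cj_cj]
    · refine ⟨h₁, hh₁, ?_⟩
      rw [← mul_assoc, cj_mul_of_mem (CZ_le_normalizer hy), he]
  rw [sup_eq_closure] at hh
  induction hh using closure_induction_right with
  | one => rwa [mul_one]
  | mul_right x hx y hy ih => exact key y hy x ih
  | mul_inv_cancel x hx y hy ih => exact key y⁻¹ (hy.imp inv_mem inv_mem) x ih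

/-- **THEOREM NF (7)** for `Φ`. -/
theorem false_of (h : Ctx G) (hF : Full (S : Subgroup G)) (D : Data (S : Subgroup G))
    {Φ : Set (Subgroup G)} (hΦ : IsFam (S : Subgroup G) Φ) {P : Subgroup G} (hP : P ∈ Φ)
    (hZ : ∀ P' ∈ Φ, ∀ p' ∈ P', ∃ p ∈ P,
      cj p' (zc (S : Subgroup G)) = cj p (zc (S : Subgroup G))) : False := by
  have hL := D.loc P (hΦ.par P hP)
  have h2 : IsPGroup 2 (zl (S : Subgroup G) (P ⊔ CZ (S : Subgroup G))) :=
    S.isPGroup'.to_le ((hL.zl_le_o2 h.char2 S).trans (hL.loc.o2_le S))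
  have h3 : zl (S : Subgroup G) (P ⊔ CZ (S : Subgroup G)) = ⊥ := by
    refine nonLoc h hF hΦ _ h2 (sSup_le fun P' hP' => ?_) (le_sup_right.trans (le_normalizer_zl _ _))
    have key : ∀ p' ∈ P', cj p' (zl (S : Subgroup G) (P ⊔ CZ (S : Subgroup G))) ≤
        zl (S : Subgroup G) (P ⊔ CZ (S : Subgroup G)) := by
      intro p' hp'
      obtain ⟨p, hp, hpe⟩ := hZ P' hP' p' hp'
      rw [cj_le_iff]
      refine iSup_le fun x => ?_
      obtain ⟨h₁, hh₁, he⟩ := exists_conj_fam hΦ hP hZ (g := p') ⟨p, (le_sup_left : P ≤ _) hp, hpe⟩ x.2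
      have h4 : cj h₁ (zc (S : Subgroup G)) ≤ zl (S : Subgroup G) (P ⊔ CZ (S : Subgroup G)) := by
        have h5 := cj_mono h₁ (zc_le_zl (S : Subgroup G) (P ⊔ CZ (S : Subgroup G)))
        rwa [cj_eq_of_mem_normalizer (le_normalizer_zl _ _ hh₁)] at h5
      rw [← he, ← cj_cj, cj_le_iff] at h4
      exact h4
    intro p' hp'
    rw [mem_normalizer_iff_cj]
    refine le_antisymm (key p' hp') ?_
    have h4 := cj_mono p' (key p'⁻¹ (inv_mem hp'))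
    rwa [cj_cj_inv] at h4
  exact MinSimple.Basic.zc_ne_bot S.isPGroup' (h.sylow_ne_bot S)
    (le_bot_iff.1 (h3 ▸ zc_le_zl (S : Subgroup G) (P ⊔ CZ (S : Subgroup G))))

end Cfsg.Agent.Omega.NOThreeL.FFB.Fam
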