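import Cfsg.Agent.Omega.NOThreeL.FFB.NFConj
import Cfsg.Agent.Omega.NOThreeL.NF.Final
import Cfsg.Agent.Omega.NOThreeL.HypGFrame

/-!
# THEOREM NF for a family `Φ ⊆ P*(S)` (THEOREM FFB, #19580, (NF))

* `exists_exact` : if `V_L`, `L = ⟨Φ⟩`, is FF, some `A ≤ S` acts on some `V_P`, `P ∈ Φ`, as an exact offender;
* `notFF` : in NO-3L with `C_Z(P) = 1` for all `P ∈ P*(S)`, `V_L` is not FF for every family `Φ` with `IsFam S Φ`,
  in particular for `Φ = FM S`;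
* `root` : the w.c. frame (`Wc.Root S L`) for `L = ⟨Φ⟩`.
-/

set_option autoImplicit false

namespace Cfsg.Agent.Omega.NOThreeL.FFB.NFLine

open Subgroup Cfsg
open Cfsg.Agent.ZN (zl zc o2)
open Cfsg.Agent.ZN.ChoiceBase hiding mem_zc
open Cfsg.Agent.Omega.MinPar Cfsg.Agent.Omega.Frame Cfsg.Agent.Omega.FrameNOFF
open Cfsg.Agent.Omega.Node.NO3L
open Cfsg.Agent.Omega.NOThreeL.Basic
open Cfsg.Agent.Omega.NO3b.EZero (NotFF cent_symm cj_cent cj_norm)
open Cfsg.Agent.Omega.FFThm (ElemM OffM NoOverM ConclM)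
open Cfsg.Agent.Omega.NOThreeL.Star hiding zl_comm zl_sq isLoc cs_le_o2 le_norm_cs exists_exact
open Cfsg.Agent.Omega.NOThreeL.FFB.Fam
open Cfsg.Agent.Omega.NOThreeL.NF (RP)
open Cfsg.Agent.MinSimple.VModule (mem_zc zc_le zc_sq zc_comm le_centralizer_zc zc_le_zl zl_le
  le_normalizer_zl normalizer_le_normalizer_zc le_normalizer_o2 o2_isPGroup o2_le)

universe u

variable {G : Type u} [Group G] [Finite G] {S : Sylow 2 G} {Φ : Set (Subgroup G)}

/-- **The exact offender** (#15808 (L0) for `Φ`). -/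
theorem exists_exact (hFF : FFThm.StmtM.{u}) (hc : IsCharacteristicTwoType G) (hm : ¬ FF (S : Subgroup G))
    (hΦ : IsFam (S : Subgroup G) Φ) (hSY : (S : Subgroup G) ≤ sSup Φ)
    (hn : ¬ NotFF (VS Φ (S : Subgroup G))) :
    ∃ P ∈ Φ, ∃ A : Subgroup G, A ≤ (S : Subgroup G) ∧ Opt (VS Φ (S : Subgroup G)) A ∧
      OffM (zl (S : Subgroup G) P) A := by
  obtain ⟨A0, hA0⟩ := exists_opt hn
  have hYV : sSup Φ ≤ normalizer (VS Φ (S : Subgroup G) : Set G) := YS_norm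
  have hVc : VS Φ (S : Subgroup G) ≤ centralizer (VS Φ (S : Subgroup G) : Set G) := zl_comm hc hm hΦ
  obtain ⟨n, hnV, hnS⟩ := FFThm.exists_conj_le S (hSY.trans hYV) hA0.pg hA0.norm
  have hA1 := hA0.cj hnV
  by_contra hcon
  push Not at hcon
  have hall : ∀ A : Subgroup G, Opt (VS Φ (S : Subgroup G)) A → A ≤ (S : Subgroup G) → ∀ P ∈ Φ,
      A ≤ centralizer (zl (S : Subgroup G) P : Set G) := by
    intro A hA hAS P hPm
    by_contra hne
    have hP := hΦ.par P hPm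
    have hW : zl (S : Subgroup G) P ≤ VS Φ (S : Subgroup G) := line_le_VS hPm
    obtain ⟨h1, h2, h3, h4⟩ := hA.exact (P := P) hVc hW hne (hAS.trans hP.le) fun hoff =>
      (hFF G (S : Subgroup G) P (MinSimple.EmptyTI.syl_of_le hP.le) hP.toIsMinPar (hP.isLoc.char2 S hc)
        ⟨A, hAS.trans hP.le, hoff⟩).1
    exact hcon P hPm A hAS hA h1
  have key : ∀ y ∈ sSup Φ, y ∈ normalizer (VS Φ (S : Subgroup G) : Set G) ∧
      ∀ A : Subgroup G, Opt (VS Φ (S : Subgroup G)) A → A ≤ (S : Subgroup G) → cj y A ≤ (S : Subgroup G) := by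
    intro y hy
    have hy' : y ∈ ⨆ P : {P : Subgroup G // P ∈ Φ}, (P : Subgroup G) := by
      rwa [sSup_eq_iSup'] at hy
    refine Subgroup.iSup_induction (S := fun P : {P : Subgroup G // P ∈ Φ} => (P : Subgroup G))
      (C := fun y => y ∈ normalizer (VS Φ (S : Subgroup G) : Set G) ∧
        ∀ A : Subgroup G, Opt (VS Φ (S : Subgroup G)) A → A ≤ (S : Subgroup G) → cj y A ≤ (S : Subgroup G))
      hy' ?_ ?_ ?_
    · rintro ⟨P, hPm⟩ p hp
      have hP := hΦ.par P hPm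
      refine ⟨par_norm (S := S) hPm hp, fun A hA hAS => ?_⟩
      rintro _ ⟨a, ha, rfl⟩
      have h1 : a ∈ o2 P := mem_o2_of_cent hc S hP (hAS ha) (hall A hA hAS P hPm ha)
      exact hP.isLoc.o2_le S ((mem_normalizer_iff.1 (le_normalizer_o2 P hp) a).1 h1)
    · exact ⟨one_mem _, fun A _ hAS => by rwa [cj_one]⟩
    · rintro x y ⟨hx1, hx2⟩ ⟨hy1, hy2⟩
      refine ⟨mul_mem hx1 hy1, fun A hA hAS => ?_⟩
      rw [← cj_cj]
      exact hx2 _ (hA.cj hy1) (hy2 A hA hAS)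
  refine hA1.ne (cent_symm ?_)
  change zl (S : Subgroup G) (sSup Φ) ≤ _
  refine iSup_le fun y => ?_
  have h1 := (key _ (inv_mem y.2)).2 _ hA1 hnS
  have h2 : cj n A0 ≤ cj (y : G) (S : Subgroup G) := by
    have h3 := cj_mono (y : G) h1
    rwa [cj_cj_inv] at h3
  exact cent_symm (h2.trans (cj_cent (g := (y : G)) (le_centralizer_zc _)))

/-- **THEOREM NF for `Φ`.** -/
theorem notFF (h : Ctx G) (hF : Full (S : Subgroup G)) (D : DataZ (S : Subgroup G))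
    (hΦ : IsFam (S : Subgroup G) Φ) : NotFF (zl (S : Subgroup G) (sSup Φ)) := by
  by_contra hn
  have hSY : (S : Subgroup G) ≤ sSup Φ := S_le h hF hΦ
  have hs : Sit S Φ := {
    fam := hΦ
    hc := h.char2
    hm := D.noff
    SY := hSY
    cz := D.cz
    no := fun P hP hA => (StarEnd.stmtM G (S : Subgroup G) P (MinSimple.EmptyTI.syl_of_le hP.le) hP.toIsMinPar
      (hP.isLoc.char2 S h.char2) hA).1
    rp := fun _ hP hoff => NF.rp h D hP hoff }
  obtain ⟨P, hPm, A, hAS, hopt, hoff⟩ := exists_exact StarEnd.stmtM h.char2 D.noff hΦ hSY hn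
  have m : Mv S Φ P A := ⟨hPm, hΦ.par P hPm, hAS, hopt, hoff.ne⟩
  refine false_of h hF D.toData hΦ hPm fun P' hP' p' hp' => ?_
  obtain ⟨z, hz, hz1⟩ : ∃ z ∈ zc (S : Subgroup G), z ≠ 1 := by
    have h1 := MinSimple.Basic.zc_ne_bot S.isPGroup' (h.sylow_ne_bot S)
    obtain ⟨a, ha⟩ := Subgroup.ne_bot_iff_exists_ne_one.1 h1
    exact ⟨a, a.2, fun h0 => ha (Subtype.ext h0)⟩
  have hv : p' * z * p'⁻¹ ∈ zl (S : Subgroup G) P := m.le_line hs hP'
    ((mem_normalizer_iff.1 (MinSimple.VModule.le_normalizer_zl (S : Subgroup G) P' hp') z).1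
      (MinSimple.VModule.zc_le_zl _ _ hz))
  obtain ⟨p, hp, he⟩ := m.conj hs hz hz1 (par_norm (S := S) hP' hp') hv
  refine ⟨p, hp, ?_⟩
  have h2 : p⁻¹ * p' ∈ centralizer ({z} : Set G) := by
    rw [mem_centralizer_singleton_iff]
    calc p⁻¹ * p' * z = p⁻¹ * (p' * z * p'⁻¹) * p' := by group
      _ = z * (p⁻¹ * p') := by rw [he]; group
  have h3 := RTools.le_normalizer S hz hz1 (fun P1 hP1 hz' => hz1 (by
    have h4 : z ∈ zc (S : Subgroup G) ⊓ centralizer (P1 : Set G) := ⟨hz, mem_centralizer_iff.2 fun x hx =>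
      mem_centralizer_singleton_iff.1 (hz' hx)⟩
    rwa [D.cz P1 hP1, mem_bot] at h4)) h2
  have h4 : cj (p⁻¹ * p') (zc (S : Subgroup G)) = zc (S : Subgroup G) := cj_eq_of_mem_normalizer h3
  have h5 := congrArg (cj p) h4
  rw [cj_cj] at h5
  rwa [mul_inv_cancel_left] at h5

/-- **The w.c. frame for `L = ⟨Φ⟩`.** -/
theorem root (h : Ctx G) (hF : Full (S : Subgroup G)) (D : DataZ (S : Subgroup G))
    (hΦ : IsFam (S : Subgroup G) Φ) : NO3b.Wc.Root S (sSup Φ) :=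
  MergeNF.root_of_isLoc h.char2 (isLoc h.char2 D.noff hΦ (S_le h hF hΦ) (h.sylow_ne_bot S))
    (cs_le_o2 h.char2 hΦ (S_le h hF hΦ)) (notFF h hF D hΦ)

end Cfsg.Agent.Omega.NOThreeL.FFB.NFLine
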